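import Cfsg.Agent.Lib.Classical.SUComm.Factor

/-!
# An isometry with a suitable corner block is a quotient of two similar isometries
-/

set_option autoImplicit false
set_option linter.unusedSectionVars false

namespace CfsgLib.SUComm

open Matrix Polynomial

variable {F : Type*} [Field F] {α β : Type*} [Fintype α] [DecidableEq α] [Fintype β] [DecidableEq β]

theorem aeval_semiconj {n : Type*} [Fintype n] [DecidableEq n] {A C S : Matrix n n F} (e : A * S = S * C)
    (h : F[X]) : aeval A h * S = S * aeval C h := by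
  induction h using Polynomial.induction_on' with
  | add p q hp hq => rw [map_add, map_add, add_mul, mul_add, hp, hq]
  | monomial n c =>
    rw [aeval_monomial, aeval_monomial, mul_assoc, ← mul_assoc S, ← Algebra.commutes c S, mul_assoc]
    congr 1
    induction n with
    | zero => simp
    | succ n ih => rw [pow_succ, pow_succ, mul_assoc, e, ← mul_assoc, ih, mul_assoc]

/-- `w ↦ p w - w r` is onto when the spectra of `p` and `r` are disjoint. -/
theorem exists_sylvester {n : Type*} [Fintype n] [DecidableEq n] {p r : Matrix n n F} {h : F[X]}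
    (hp : aeval p h = 0) (hr : IsUnit (aeval r h)) (t : Matrix n n F) : ∃ w, p * w - w * r = t := by
  let L : Matrix n n F →ₗ[F] Matrix n n F := LinearMap.mulLeft F p - LinearMap.mulRight F r
  have hL : Function.Injective L := by
    rw [← LinearMap.ker_eq_bot, LinearMap.ker_eq_bot']
    intro w hw
    have e : p * w = w * r := sub_eq_zero.1 hw
    have := aeval_semiconj e h
    rw [hp, Matrix.zero_mul] at this
    exact hr.mul_left_eq_zero.1 this.symm
  exact (LinearMap.injective_iff_surjective.1 hL) t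

/-- `A` and `B` are similar. -/
def Sim {n : Type*} [Fintype n] [DecidableEq n] (A B : Matrix n n F) : Prop :=
  ∃ S, IsUnit S ∧ A * S = S * B

theorem Sim.trans {n : Type*} [Fintype n] [DecidableEq n] {A B C : Matrix n n F} (h : Sim A B) (h' : Sim B C) :
    Sim A C := by
  obtain ⟨S, hS, e⟩ := h
  obtain ⟨S', hS', e'⟩ := h'
  exact ⟨S * S', hS.mul hS', by rw [← mul_assoc, e, mul_assoc, e', mul_assoc]⟩

theorem sim_of_inv {n : Type*} [Fintype n] [DecidableEq n] {A B S Si : Matrix n n F} (h : S * Si = 1)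
    (e : A = S * B * Si) : Sim A B :=
  ⟨S, IsUnit.of_mul_eq_one Si h, by rw [e, mul_assoc, mul_eq_one_comm.1 h, mul_one]⟩

theorem isUnit_of_det {n : Type*} [Fintype n] [DecidableEq n] {A : Matrix n n F} (h : A.det = 1) : IsUnit A :=
  (isUnit_iff_isUnit_det A).2 (by rw [h]; exact isUnit_one)

theorem sim_upper {p r : Matrix α α F} {s : F} {h : F[X]} (hps : IsUnit (p - s • 1)) (hrs : IsUnit (r - s • 1))
    (hp : aeval p h = 0) (hr : IsUnit (aeval r h)) (b : Matrix α β F) (c : Matrix α α F) (f : Matrix β α F) :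
    Sim (blk p b c 0 (s • (1 : Matrix β β F)) f 0 0 r) (blk p 0 0 0 (s • 1) 0 0 0 r) := by
  obtain ⟨pi, hpi⟩ := hps.exists_left_inv
  obtain ⟨ri, hri⟩ := hrs.exists_right_inv
  have hpi' : (p - s • 1) * pi = 1 := mul_eq_one_comm.1 hpi
  have hri' : ri * (r - s • 1) = 1 := mul_eq_one_comm.1 hri
  obtain ⟨u, hu⟩ : ∃ u, u = -(pi * b) := ⟨_, rfl⟩
  obtain ⟨z, hz⟩ : ∃ z, z = f * ri := ⟨_, rfl⟩
  obtain ⟨w, hw⟩ := exists_sylvester hp hr (-(b * z) - c)
  refine ⟨blk 1 u w 0 1 z 0 0 1, isUnit_of_det (by simp [det_blk_upper]), ?_⟩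
  simp only [blk_mul, blk_inj, Matrix.mul_zero, Matrix.zero_mul, Matrix.mul_one, Matrix.one_mul, add_zero,
    zero_add, Matrix.smul_mul, Matrix.mul_smul, smul_zero]
  refine ⟨trivial, ?_, ?_, trivial, trivial, ?_, trivial, trivial, trivial⟩
  · have e : (p - s • 1) * u + b = 0 := by
      rw [hu, Matrix.mul_neg, ← Matrix.mul_assoc, hpi', Matrix.one_mul, neg_add_cancel]
    rw [Matrix.sub_mul, Matrix.smul_mul, Matrix.one_mul] at e
    rw [← sub_eq_zero, ← e]; abel
  · rw [sub_eq_iff_eq_add] at hw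
    rw [hw]; abel
  · have e : z * (r - s • 1) = f := by rw [hz, Matrix.mul_assoc, hri', Matrix.mul_one]
    rw [Matrix.mul_sub, Matrix.mul_smul, Matrix.mul_one, sub_eq_iff_eq_add] at e
    rw [e, add_comm]

theorem sim_lower {p r : Matrix α α F} {s : F} {h : F[X]} (hps : IsUnit (p - s • 1)) (hrs : IsUnit (r - s • 1))
    (hp : aeval p h = 0) (hr : IsUnit (aeval r h)) (d : Matrix β α F) (g : Matrix α α F) (h' : Matrix α β F) :
    Sim (blk p 0 0 d (s • (1 : Matrix β β F)) 0 g h' r) (blk p 0 0 0 (s • 1) 0 0 0 r) := by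
  obtain ⟨pi, hpi⟩ := hps.exists_right_inv
  obtain ⟨ri, hri⟩ := hrs.exists_left_inv
  have hpi' : pi * (p - s • 1) = 1 := mul_eq_one_comm.1 hpi
  have hri' : (r - s • 1) * ri = 1 := mul_eq_one_comm.1 hri
  obtain ⟨u, hu⟩ : ∃ u, u = d * pi := ⟨_, rfl⟩
  obtain ⟨z, hz⟩ : ∃ z, z = -(ri * h') := ⟨_, rfl⟩
  obtain ⟨w, hw⟩ : ∃ w, r * w - w * p = -(g + h' * u) := by
    let L : Matrix α α F →ₗ[F] Matrix α α F := LinearMap.mulLeft F r - LinearMap.mulRight F p
    have hL : Function.Injective L := by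
      rw [← LinearMap.ker_eq_bot, LinearMap.ker_eq_bot']
      intro w hw
      have e : r * w = w * p := sub_eq_zero.1 hw
      have := aeval_semiconj e h
      rw [hp, Matrix.mul_zero] at this
      exact hr.mul_right_eq_zero.1 this
    exact (LinearMap.injective_iff_surjective.1 hL) _
  refine ⟨blk 1 0 0 u 1 0 w z 1, isUnit_of_det (by simp [det_blk_lower]), ?_⟩
  simp only [blk_mul, blk_inj, Matrix.mul_zero, Matrix.zero_mul, Matrix.mul_one, Matrix.one_mul, add_zero,
    zero_add, Matrix.smul_mul, Matrix.mul_smul, smul_zero]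
  refine ⟨trivial, trivial, trivial, ?_, trivial, trivial, ?_, ?_, trivial⟩
  · have e : u * (p - s • 1) = d := by rw [hu, Matrix.mul_assoc, hpi', Matrix.mul_one]
    rw [Matrix.mul_sub, Matrix.mul_smul, Matrix.mul_one, sub_eq_iff_eq_add] at e
    rw [e]
  · rw [sub_eq_iff_eq_add] at hw
    rw [hw]; abel
  · have e : (r - s • 1) * z + h' = 0 := by
      rw [hz, Matrix.mul_neg, ← Matrix.mul_assoc, hri', Matrix.one_mul, neg_add_cancel]
    rw [Matrix.sub_mul, Matrix.smul_mul, Matrix.one_mul] at e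
    rw [← sub_eq_zero, ← e]; abel

variable (σ : F →+* F)

/-- The model block diagonal isometry. -/
def dia (β : Type*) [DecidableEq β] (T Ti : Matrix α α F) (c : F) : Matrix (α ⊕ (β ⊕ α)) (α ⊕ (β ⊕ α)) F :=
  blk T 0 0 0 (c • 1) 0 0 0 (ct σ Ti)

theorem gun_dia (hσ : ∀ x, σ (σ x) = x) {T Ti : Matrix α α F} {c : F} (hT : T * Ti = 1) (hc : c * σ c = 1) :
    GUn σ (dia σ β T Ti c) := by
  have h1 : Ti * T = 1 := mul_eq_one_comm.1 hT
  have h2 : ct σ T * ct σ Ti = 1 := by rw [← ct_mul, h1, ct_one]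
  simp [GUn, gram, dia, ct_blk, blk_mul, blk_inj, ct_ct σ hσ, h1, h2, smul_smul, hc]

theorem sim_dia {p pi T Ti X Xi : Matrix α α F} {c : F} (hX : X * Xi = 1) (hp : p = X * T * Xi)
    (hpi : pi = X * Ti * Xi) : Sim (dia σ β p pi c) (dia σ β T Ti c) := by
  have hX' : Xi * X = 1 := mul_eq_one_comm.1 hX
  have hY : ct σ Xi * ct σ X = 1 := by rw [← ct_mul, hX, ct_one]
  refine sim_of_inv (S := blk X 0 0 0 1 0 0 0 (ct σ Xi)) (Si := blk Xi 0 0 0 1 0 0 0 (ct σ X)) ?_ ?_
  · simp [blk_mul, blk_one, blk_inj, hX, hY]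
  · simp [dia, blk_mul, blk_inj, hp, hpi, ct_mul, Matrix.mul_assoc]

theorem isUnit_ct {n : Type*} [Fintype n] [DecidableEq n] {A : Matrix n n F} (h : IsUnit A) : IsUnit (ct σ A) := by
  obtain ⟨B, hB⟩ := h.exists_left_inv
  exact IsUnit.of_mul_eq_one (ct σ B) (by rw [← ct_mul, hB, ct_one])

/-- The units needed to diagonalise. -/
theorem dia_conds (hσ : ∀ x, σ (σ x) = x) {T Ti X Xi : Matrix α α F} {c : F} {h : F[X]} (hT : T * Ti = 1)
    (hX : X * Xi = 1) (hc : c * σ c = 1) (hTc : IsUnit (T - c • 1)) (hh : aeval T h = 0)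
    (hh' : IsUnit (aeval (ct σ Ti) h)) :
    IsUnit (X * T * Xi - c • 1) ∧ IsUnit (ct σ (X * Ti * Xi) - c • 1) ∧
      aeval (X * T * Xi) h = 0 ∧ IsUnit (aeval (ct σ (X * Ti * Xi)) h) := by
  have hXu : IsUnit X := IsUnit.of_mul_eq_one Xi hX
  have hX' : Xi * X = 1 := mul_eq_one_comm.1 hX
  have hXiu : IsUnit Xi := IsUnit.of_mul_eq_one X hX'
  have hTiu : IsUnit Ti := IsUnit.of_mul_eq_one T (mul_eq_one_comm.1 hT)
  have hsc : c * σ c = 1 := hc
  refine ⟨?_, ?_, ?_, ?_⟩
  · have : X * T * Xi - c • 1 = X * (T - c • 1) * Xi := by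
      simp [Matrix.mul_sub, Matrix.sub_mul, hX]
    rw [this]; exact (hXu.mul hTc).mul hXiu
  · have hu : IsUnit (Ti - σ c • (1 : Matrix α α F)) := by
      have : Ti - σ c • (1 : Matrix α α F) = (-σ c) • (Ti * (T - c • 1)) := by
        rw [Matrix.mul_sub, mul_eq_one_comm.1 hT, Matrix.mul_smul, Matrix.mul_one, smul_sub, neg_smul, neg_smul,
          smul_smul, mul_comm (σ c), hsc, one_smul]
        abel
      rw [this]
      exact (hTiu.mul hTc).smul (Units.mk0 (-σ c) (neg_ne_zero.2 fun e => by rw [e, mul_zero] at hsc; exact zero_ne_one hsc))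
    have : ct σ (X * Ti * Xi) - c • 1 = ct σ (X * (Ti - σ c • 1) * Xi) := by
      simp [Matrix.mul_sub, Matrix.sub_mul, hX, hσ]
    rw [this]
    exact isUnit_ct σ ((hXu.mul hu).mul hXiu)
  · have e : X * T * Xi * X = X * T := by rw [Matrix.mul_assoc, hX', Matrix.mul_one]
    have := aeval_semiconj e h
    rw [hh, Matrix.mul_zero] at this
    exact hXu.mul_left_eq_zero.1 this
  · have hu' : IsUnit (ct σ Xi) := isUnit_ct σ hXiu
    have e : ct σ (X * Ti * Xi) * ct σ Xi = ct σ Xi * ct σ Ti := by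
      rw [← ct_mul, ← ct_mul, ← Matrix.mul_assoc, ← Matrix.mul_assoc, hX', Matrix.one_mul]
    have := aeval_semiconj e h
    obtain ⟨u, hu⟩ := hu'
    have e2 : aeval (ct σ (X * Ti * Xi)) h = ct σ Xi * aeval (ct σ Ti) h * ((u⁻¹ : (Matrix α α F)ˣ) : Matrix α α F) := by
      rw [← this, ← hu, Units.mul_inv_cancel_right]
    rw [e2]
    exact ((isUnit_ct σ hXiu).mul hh').mul (u⁻¹).isUnit

/-- The main factorisation. -/
theorem exists_pair (hσ : ∀ x, σ (σ x) = x) (hβ : Fintype.card β ≤ 1) {a : Matrix α α F} {b : Matrix α β F}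
    {c : Matrix α α F} {d : Matrix β α F} {e : Matrix β β F} {f : Matrix β α F} {g : Matrix α α F}
    {h : Matrix α β F} {i : Matrix α α F} (hM : GUn σ (blk a b c d e f g h i))
    (hdet : (blk a b c d e f g h i).det = 1) (ha1 : a.det = 1)
    {T Ti X Xi Y Yi : Matrix α α F} (hT : T * Ti = 1) (hX : X * Xi = 1) (hY : Y * Yi = 1)
    (ha : a = X * T * Xi * (Y * Ti * Yi)) {s : F} (hs : s * σ s = 1) {p : F[X]} (hTs : IsUnit (T - s • 1))
    (hp : aeval T p = 0) (hp' : IsUnit (aeval (ct σ Ti) p)) :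
    ∃ A B, GUn σ A ∧ GUn σ B ∧ blk a b c d e f g h i * B = A ∧
      Sim A (dia σ β T Ti s) ∧ Sim B (dia σ β T Ti s) := by
  have hTi : Ti * T = 1 := mul_eq_one_comm.1 hT
  have hX' : Xi * X = 1 := mul_eq_one_comm.1 hX
  have hY' : Yi * Y = 1 := mul_eq_one_comm.1 hY
  obtain ⟨ai, hai⟩ : ∃ ai, ai = Y * T * Yi * (X * Ti * Xi) := ⟨_, rfl⟩
  have haai : a * ai = 1 := by
    rw [ha, hai]
    calc X * T * Xi * (Y * Ti * Yi) * (Y * T * Yi * (X * Ti * Xi))
        = X * T * Xi * (Y * (Ti * (Yi * Y) * T) * Yi) * (X * Ti * Xi) := by simp only [Matrix.mul_assoc]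
      _ = X * (T * (Xi * X) * Ti) * Xi := by
          rw [hY', Matrix.mul_one, hTi, Matrix.mul_one, hY, Matrix.mul_one]; simp only [Matrix.mul_assoc]
      _ = 1 := by rw [hX', Matrix.mul_one, hT, Matrix.mul_one, hX]
  obtain ⟨X₀, Y₀, c', f', i', hN, hU, hMNU, hi', hC⟩ := exists_factor σ hσ hM haai
  obtain ⟨C, hCdef⟩ : ∃ C, C = e - d * ai * b := ⟨_, rfl⟩
  rw [← hCdef] at hU hMNU hC
  -- the middle block is trivial
  have hC1 : C = 1 := by
    have hd := hdet
    rw [hMNU, det_mul, det_blk_lower, det_blk_upper, ha1] at hd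
    have hi : i'.det = 1 := by
      have := congrArg det hi'
      rwa [det_mul, det_ct, ha1, map_one, one_mul, det_one] at this
    rw [hi] at hd
    simp only [det_one, one_mul, mul_one] at hd
    haveI : Subsingleton β := Fintype.card_le_one_iff_subsingleton.1 hβ
    ext u v
    obtain rfl := Subsingleton.elim u v
    rwa [Matrix.det_eq_elem_of_subsingleton C u, ← Matrix.one_apply_eq u] at hd
  subst hC1
  obtain ⟨P, hP⟩ : ∃ P, P = X * T * Xi := ⟨_, rfl⟩
  obtain ⟨Pi', hPi⟩ : ∃ Pi', Pi' = X * Ti * Xi := ⟨_, rfl⟩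
  have hPP : P * Pi' = 1 := by
    rw [hP, hPi]
    calc X * T * Xi * (X * Ti * Xi) = X * (T * (Xi * X) * Ti) * Xi := by simp only [Matrix.mul_assoc]
      _ = 1 := by rw [hX', Matrix.mul_one, hT, Matrix.mul_one, hX]
  set D := dia σ β P Pi' s with hD
  have hDU : GUn σ D := gun_dia σ hσ hPP hs
  set N := blk 1 0 0 X₀ 1 0 Y₀ (-ct σ X₀) 1 with hNdef
  set U := blk a b c' 0 1 f' 0 0 i' with hUdef
  refine ⟨N * D, gram α β * ct σ U * gram α β * D, GUn.mul σ hN hDU, GUn.mul σ (hU.inverse σ hσ) hDU, ?_, ?_, ?_⟩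
  · rw [hMNU, Matrix.mul_assoc, ← Matrix.mul_assoc U, hU.mul_inv, Matrix.one_mul]
  · obtain ⟨c1, c2, c3, c4⟩ := dia_conds σ hσ hT hX hs hTs hp hp'
    refine Sim.trans ?_ (sim_dia σ hX hP hPi)
    have : N * D = blk P 0 0 (X₀ * P) (s • 1) 0 (Y₀ * P) (s • -ct σ X₀) (ct σ Pi') := by
      simp [hNdef, hD, dia, blk_mul, blk_inj]
    rw [this, dia, hP, hPi]
    exact sim_lower c1 c2 c3 c4 _ _ _
  · obtain ⟨c1, c2, c3, c4⟩ := dia_conds σ hσ hT hY hs hTs hp hp'
    refine Sim.trans ?_ (sim_dia σ hY rfl rfl)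
    have hia : ct σ i' * P = Y * T * Yi := by
      have h1 : ct σ i' * a = 1 := by
        have := congrArg (ct σ) hi'
        rwa [ct_mul, ct_ct σ hσ, ct_one] at this
      have h2 : ct σ i' = ai := by
        rw [← Matrix.mul_one (ct σ i'), ← haai, ← Matrix.mul_assoc, h1, Matrix.one_mul]
      rw [h2, hai, hP]
      calc Y * T * Yi * (X * Ti * Xi) * (X * T * Xi) = Y * T * Yi * (X * (Ti * (Xi * X) * T) * Xi) := by
            simp only [Matrix.mul_assoc]
        _ = _ := by rw [hX', Matrix.mul_one, hTi, Matrix.mul_one, hX, Matrix.mul_one]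
    have hai' : ct σ a * ct σ Pi' = ct σ (Y * Ti * Yi) := by
      rw [← ct_mul, hPi, ha]
      congr 1
      calc X * Ti * Xi * (X * T * Xi * (Y * Ti * Yi)) = X * (Ti * (Xi * X) * T) * Xi * (Y * Ti * Yi) := by
            simp only [Matrix.mul_assoc]
        _ = _ := by rw [hX', Matrix.mul_one, hTi, Matrix.mul_one, hX, Matrix.one_mul]
    have : gram α β * ct σ U * gram α β * D = blk (Y * T * Yi) (s • ct σ f') (ct σ c' * ct σ Pi')
        0 (s • 1) (ct σ b * ct σ Pi') 0 0 (ct σ (Y * Ti * Yi)) := by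
      simp [hUdef, hD, dia, gram, ct_blk, blk_mul, blk_inj, hia, hai']
    rw [this, dia]
    exact sim_upper c1 c2 c3 c4 _ _ _

end CfsgLib.SUComm
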