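import Cfsg.Agent.Lib.Classical.SUComm.Core
import Cfsg.Agent.Lib.Classical.RegularProduct

/-!
# Matrices of determinant one as quotients of two matrices in a block diagonal class
-/

set_option autoImplicit false
set_option linter.unusedSectionVars false

namespace CfsgLib.SUComm

open Matrix
open CfsgLib.Classical.RegularProduct

variable {K : Type*} [Field K] {ι κ : Type*} [Fintype ι] [DecidableEq ι] [Fintype κ] [DecidableEq κ]

/-- `A` is a quotient of two matrices similar to `T`. -/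
def Dec (T A : Matrix ι ι K) : Prop := ∃ P Q, Sim P T ∧ Sim Q T ∧ A * Q = P

theorem Sim.rfl' (T : Matrix ι ι K) : Sim T T := ⟨1, isUnit_one, by rw [Matrix.mul_one, Matrix.one_mul]⟩

theorem dec_one (T : Matrix ι ι K) : Dec T 1 := ⟨T, T, Sim.rfl' T, Sim.rfl' T, Matrix.one_mul T⟩

theorem Dec.of_sim {T A A' S Si : Matrix ι ι K} (hS : S * Si = 1) (hA : A * S = S * A') (h : Dec T A') :
    Dec T A := by
  obtain ⟨P, Q, hP, hQ, e⟩ := h
  refine ⟨S * P * Si, S * Q * Si, (sim_of_inv hS rfl).trans hP, (sim_of_inv hS rfl).trans hQ, ?_⟩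
  calc A * (S * Q * Si) = A * S * Q * Si := by simp only [Matrix.mul_assoc]
    _ = S * (A' * Q) * Si := by rw [hA]; simp only [Matrix.mul_assoc]
    _ = _ := by rw [e]

/-- One peeling step. -/
theorem exists_peel (hK : 4 ≤ Cardinal.mk K) (k : ℕ) {M : Matrix (Fin (k + 2)) (Fin (k + 2)) K} (hdet : M.det = 1)
    (hM : Generic M) {c r : Fin (k + 2) → K} (hc : c ≠ 0) (hr : r ≠ 0) :
    ∃ (Pm Pi' : Matrix (Fin (k + 2)) (Fin (k + 2)) K) (c₁ r₁ : Fin (k + 1) → K) (S : Matrix (Fin (k + 1)) (Fin (k + 1)) K),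
      Pm * Pi' = 1 ∧ M * Pm = Pm * bordered 1 r₁ c₁ (vecMulVec c₁ r₁ + S) ∧ S.det = 1 ∧ (k = 0 ∨ Generic S) ∧
      c₁ ≠ 0 ∧ r₁ ≠ 0 ∧ (Pi' *ᵥ c) 0 ≠ 0 ∧ (r ᵥ* Pm) 0 ≠ 0 := by
  obtain ⟨v, w, hwv, hwMv, hrv, hwc, hMv, hwM, hgen⟩ : ∃ v w : Fin (k + 2) → K, w ⬝ᵥ v = 1 ∧ w ⬝ᵥ (M *ᵥ v) = 1 ∧
      r ⬝ᵥ v ≠ 0 ∧ w ⬝ᵥ c ≠ 0 ∧ M *ᵥ v ≠ v ∧ w ᵥ* M ≠ w ∧ (k = 0 ∨
        (∀ l : K, M - vecMulVec (M *ᵥ v) (w ᵥ* M) ≠ l • (1 - vecMulVec v w)) ∧
        ∀ u f : Fin (k + 2) → K, w ⬝ᵥ u = 0 → f ⬝ᵥ v = 0 → f ⬝ᵥ u = 0 →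
          M - vecMulVec (M *ᵥ v) (w ᵥ* M) - (1 - vecMulVec v w) ≠ vecMulVec u f) := by
    rcases Nat.eq_zero_or_pos k with rfl | hk
    · obtain ⟨v, hrv, hev, hvc, -⟩ := choose_vector hK hM hr (c := c)
      have hv0 : v ≠ 0 := fun h => hrv (by rw [h, dotProduct_zero])
      have hli : LinearIndependent K ![M *ᵥ v, v] :=
        linearIndependent_fin2.2 ⟨hv0, fun a h => hev a (by simpa using h.symm)⟩
      obtain ⟨w, hw⟩ := exists_dual hli ![1, 1]
      have hw0 : w ⬝ᵥ (M *ᵥ v) = 1 := hw 0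
      have hw1 : w ⬝ᵥ v = 1 := hw 1
      obtain ⟨g, hg⟩ := (Submodule.mem_span_range_iff_exists_fun K).1
        (show c ∈ Submodule.span K (Set.range ![M *ᵥ v, v]) by
          rw [hli.span_eq_top_of_card_eq_finrank (by simp)]; trivial)
      rw [Fin.sum_univ_two] at hg
      simp only [Matrix.cons_val_zero, Matrix.cons_val_one] at hg
      refine ⟨v, w, hw1, hw0, hrv, fun h => ?_, fun h => hev 1 (by rw [h, one_smul]), fun h => ?_, Or.inl rfl⟩
      · rw [← hg, dotProduct_add, dotProduct_smul, dotProduct_smul, hw0, hw1, smul_eq_mul, smul_eq_mul, mul_one, mul_one] at h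
        have hcz : c = g 0 • (M *ᵥ v - v) := by
          rw [← hg, show g 1 = -g 0 by linear_combination h]; module
        rcases eq_or_ne (g 0) 0 with h0 | h0
        · exact hc (by rw [hcz, h0, zero_smul])
        · exact hvc (g 0)⁻¹ (by rw [hcz, smul_smul, inv_mul_cancel₀ h0, one_smul])
      · -- otherwise `M - 1` has rank at most one
        have hw0' : w ≠ 0 := fun h => by rw [h, zero_dotProduct] at hw1; exact zero_ne_one hw1
        obtain ⟨f, hf⟩ := eq_vecMulVec_of_range_le (M - 1) (M *ᵥ v - v) fun x => by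
          obtain ⟨g', hg'⟩ := (Submodule.mem_span_range_iff_exists_fun K).1
            (show (M - 1) *ᵥ x ∈ Submodule.span K (Set.range ![M *ᵥ v, v]) by
              rw [hli.span_eq_top_of_card_eq_finrank (by simp)]; trivial)
          rw [Fin.sum_univ_two] at hg'
          simp only [Matrix.cons_val_zero, Matrix.cons_val_one] at hg'
          have h0 : w ⬝ᵥ ((M - 1) *ᵥ x) = 0 := by
            rw [Matrix.sub_mulVec, Matrix.one_mulVec, dotProduct_sub, dotProduct_mulVec, h, sub_self]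
          rw [← hg', dotProduct_add, dotProduct_smul, dotProduct_smul, hw0, hw1, smul_eq_mul, smul_eq_mul, mul_one, mul_one] at h0
          rw [← hg', show g' 1 = -g' 0 by linear_combination h0, Submodule.mem_span_singleton]
          exact ⟨g' 0, by module⟩
        exact hM.2 _ _ hf
    · obtain ⟨v, w, h1, h2, h3, h4, h5, h6, h7⟩ := choose_step hK (by omega) hdet hM hc hr
      exact ⟨v, w, h1, h2, h3, h4, h5, h6, Or.inr h7⟩
  obtain ⟨P, hPv, hPw⟩ := exists_basis_matrix hwv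
  obtain ⟨Pm, hPm⟩ : ∃ Pm, Pm = (P : Matrix (Fin (k + 2)) (Fin (k + 2)) K) := ⟨_, rfl⟩
  obtain ⟨Pi', hPi⟩ : ∃ Pi', Pi' = (P⁻¹ : GL (Fin (k + 2)) K).1 := ⟨_, rfl⟩
  rw [← hPm] at hPv hPw
  have hPP : Pm * Pi' = 1 := by rw [hPm, hPi]; exact P.mul_inv
  have hPP' : Pi' * Pm = 1 := by rw [hPm, hPi]; exact P.inv_mul
  let e0 : Fin (k + 2) → K := Pi.single 0 1
  have hPe : Pm *ᵥ e0 = v := funext fun i => by simp [e0, hPv]
  have heP : w ᵥ* Pm = e0 := funext fun j => by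
    induction j using Fin.cases with
    | zero =>
      show w ⬝ᵥ (fun i => Pm i 0) = e0 0
      rw [funext hPv, hwv]; simp [e0]
    | succ j =>
      show w ⬝ᵥ (fun i => Pm i j.succ) = e0 j.succ
      rw [hPw]; simp [e0, Fin.succ_ne_zero]
  have hvP : Pi' *ᵥ v = e0 := by rw [← hPe, mulVec_mulVec, hPP', one_mulVec]
  have hwP : e0 ᵥ* Pi' = w := by rw [← heP, vecMul_vecMul, hPP, vecMul_one]
  obtain ⟨A, hA⟩ : ∃ A, A = Pi' * M * Pm := ⟨_, rfl⟩
  have hMA : M = Pm * A * Pi' := by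
    rw [hA, ← mul_assoc, ← mul_assoc, hPP, one_mul, mul_assoc, hPP, mul_one]
  have hA00 : A 0 0 = 1 := by
    have : e0 ⬝ᵥ (A *ᵥ e0) = 1 := by
      rw [hA, ← mulVec_mulVec, ← mulVec_mulVec, hPe, dotProduct_mulVec, hwP, hwMv]
    simpa [e0] using this
  obtain ⟨r₁, c₁, D, hAb⟩ : ∃ r₁ c₁ D, A = bordered 1 r₁ c₁ D := ⟨_, _, _, hA00 ▸ bordered_ext A⟩
  obtain ⟨S, hS⟩ : ∃ S, S = D - vecMulVec c₁ r₁ := ⟨_, rfl⟩
  have hfac : A = bordered 1 0 c₁ 1 * bordered 1 r₁ 0 S := by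
    rw [bordered_mul, hAb, hS]; simp
  have hdetS : S.det = 1 := by
    have h1 : A.det = 1 := by
      rw [hA, Matrix.det_mul, Matrix.det_mul, hdet, mul_one, ← Matrix.det_mul, hPP', Matrix.det_one]
    rw [hfac, Matrix.det_mul, det_bordered_col, ← Matrix.det_transpose, bordered_transpose, det_bordered_col,
      Matrix.transpose_one, Matrix.det_one, one_mul] at h1
    exact h1
  have hAe : A *ᵥ e0 = Fin.cons 1 c₁ := funext fun i => by
    rw [hAb]; induction i using Fin.cases <;> simp [e0]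
  have heA : e0 ᵥ* A = Fin.cons 1 r₁ := funext fun i => by
    rw [hAb]; induction i using Fin.cases <;> simp [e0]
  have hc₁ : c₁ ≠ 0 := fun h => hMv (by
    rw [hMA, ← mulVec_mulVec, ← mulVec_mulVec, hvP, hAe, h]
    rw [show (Fin.cons 1 (0 : Fin (k + 1) → K) : Fin (k + 2) → K) = e0 by
      funext i; induction i using Fin.cases <;> simp [e0, Fin.succ_ne_zero], hPe])
  have hr₁ : r₁ ≠ 0 := fun h => hwM (by
    rw [hMA, ← vecMul_vecMul, ← vecMul_vecMul, heP, heA, h]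
    rw [show (Fin.cons 1 (0 : Fin (k + 1) → K) : Fin (k + 2) → K) = e0 by
      funext i; induction i using Fin.cases <;> simp [e0, Fin.succ_ne_zero], hwP])
  have hTb : bordered 0 0 0 S = A - vecMulVec (A *ᵥ e0) (e0 ᵥ* A) := by
    rw [hAe, heA, hAb, hS]
    ext i j
    induction i using Fin.cases <;> induction j using Fin.cases <;> simp [vecMulVec_apply]
  have hpb : (bordered 0 0 0 1 : Matrix (Fin (k + 2)) (Fin (k + 2)) K) = 1 - vecMulVec e0 e0 := by
    ext i j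
    induction i using Fin.cases <;> induction j using Fin.cases <;>
      simp [vecMulVec_apply, e0, Matrix.one_apply, Fin.succ_ne_zero, (Fin.succ_ne_zero _).symm]
  have hT : Pm * bordered 0 0 0 S * Pi' = M - vecMulVec (M *ᵥ v) (w ᵥ* M) := by
    rw [hTb, mul_sub, sub_mul, ← hMA, mul_vecMulVec, vecMulVec_mul, mulVec_mulVec, vecMul_vecMul]
    congr 2
    · rw [hMA, ← mulVec_mulVec, ← mulVec_mulVec, hvP, mulVec_mulVec]
    · conv_rhs => rw [hMA, ← vecMul_vecMul, ← vecMul_vecMul, heP]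
      rw [vecMul_vecMul]

  have hπ : Pm * bordered 0 0 0 1 * Pi' = 1 - vecMulVec v w := by
    rw [hpb, mul_sub, sub_mul, mul_one, hPP, mul_vecMulVec, vecMulVec_mul, hPe, hwP]
  have hgS : k = 0 ∨ Generic S := by
    rcases hgen with h | ⟨hg1, hg2⟩
    · exact Or.inl h
    refine Or.inr ⟨fun ⟨l, hl⟩ => hg1 l ?_, fun u f hf => ?_⟩
    · rw [← hT, ← hπ, hl, show (bordered 0 0 0 (l • (1 : Matrix (Fin (k + 1)) (Fin (k + 1)) K))) = l • bordered 0 0 0 1 by
        ext i j; induction i using Fin.cases <;> induction j using Fin.cases <;> simp,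
        Matrix.mul_smul, Matrix.smul_mul]
    · have hfu : f ⬝ᵥ u = 0 := by
        have h1 : (1 + vecMulVec u f).det = 1 := by rw [← hf, add_sub_cancel, hdetS]
        rw [vecMulVec_eq Unit, Matrix.det_one_add_replicateCol_mul_replicateRow] at h1
        linear_combination h1
      refine hg2 (Pm *ᵥ Fin.cons 0 u) (Fin.cons 0 f ᵥ* Pi') ?_ ?_ ?_ ?_
      · rw [dotProduct_mulVec, heP]; simp [e0]
      · rw [← dotProduct_mulVec, hvP]; simp [e0]
      · rw [← dotProduct_mulVec, mulVec_mulVec, hPP', one_mulVec]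
        simpa [dotProduct, Fin.sum_univ_succ] using hfu
      · rw [← hT, ← hπ, ← sub_mul, ← mul_sub, bordered_sub, hf, ← vecMulVec_mul, ← mul_vecMulVec]
        congr 2
        ext i j
        induction i using Fin.cases <;> induction j using Fin.cases <;> simp [vecMulVec_apply]
  refine ⟨Pm, Pi', c₁, r₁, S, hPP, ?_, hdetS, hgS, hc₁, hr₁, ?_, ?_⟩
  · rw [hMA, hS, Matrix.mul_assoc, hPP', Matrix.mul_one, hAb, add_sub_cancel]
  · rw [show (Pi' *ᵥ c) 0 = w ⬝ᵥ c by rw [← hwP, ← dotProduct_mulVec]; simp [e0]]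
    exact hwc
  · rw [show (r ᵥ* Pm) 0 = r ⬝ᵥ v by rw [← hPe, dotProduct_mulVec]; simp [e0]]
    exact hrv

theorem bordered_diag_mul {k : ℕ} (a b : K) (D E : Matrix (Fin k) (Fin k) K) :
    bordered a 0 0 D * bordered b 0 0 E = bordered (a * b) 0 0 (D * E) := by
  rw [bordered_mul]; congr 1 <;> simp [vecMulVec]
  ext i j; simp

theorem isUnit_bordered_lower {k : ℕ} {a : K} (ha : a ≠ 0) {D : Matrix (Fin k) (Fin k) K} (hD : IsUnit D)
    (c : Fin k → K) : IsUnit (bordered a 0 c D) := by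
  obtain ⟨Di, hDi⟩ := hD.exists_right_inv
  refine IsUnit.of_mul_eq_one (bordered a⁻¹ 0 (-(a⁻¹ • (Di *ᵥ c))) Di) ?_
  rw [bordered_mul, bordered_one]
  congr 1 <;> simp [ha, Matrix.mulVec_smul, mulVec_mulVec, hDi, Matrix.mulVec_neg, vecMulVec]
  ext i j; simp

theorem isUnit_bordered_upper {k : ℕ} {a : K} (ha : a ≠ 0) {D : Matrix (Fin k) (Fin k) K} (hD : IsUnit D)
    (r : Fin k → K) : IsUnit (bordered a r 0 D) := by
  rw [← Matrix.isUnit_transpose, bordered_transpose]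
  exact isUnit_bordered_lower ha ((Matrix.isUnit_transpose D).2 hD) r

theorem sim_bordered_diag {k : ℕ} (a : K) {D E : Matrix (Fin k) (Fin k) K} (h : Sim D E) :
    Sim (bordered a 0 0 D) (bordered a 0 0 E) := by
  obtain ⟨S, hS, e⟩ := h
  exact ⟨bordered 1 0 0 S, isUnit_bordered_lower one_ne_zero hS 0, by simp [bordered_diag_mul, e]⟩

theorem sim_bordered_lower {k : ℕ} {a : K} {D : Matrix (Fin k) (Fin k) K} (h : IsUnit (D - a • 1)) (c : Fin k → K) :
    Sim (bordered a 0 c D) (bordered a 0 0 D) := by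
  obtain ⟨E, hE⟩ := h.exists_right_inv
  refine ⟨bordered 1 0 (-(E *ᵥ c)) 1, isUnit_bordered_lower one_ne_zero isUnit_one _, ?_⟩
  have h2 : (D - a • 1) *ᵥ (E *ᵥ c) = c := by rw [mulVec_mulVec, hE, Matrix.one_mulVec]
  rw [Matrix.sub_mulVec, Matrix.smul_mulVec, Matrix.one_mulVec] at h2
  rw [bordered_mul, bordered_mul]
  congr 1 <;> simp [Matrix.mulVec_neg, vecMulVec]
  rw [← mulVec_mulVec]
  linear_combination (norm := module) -h2

theorem sim_bordered_upper {k : ℕ} {a : K} {D : Matrix (Fin k) (Fin k) K} (h : IsUnit (D - a • 1)) (r : Fin k → K) :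
    Sim (bordered a r 0 D) (bordered a 0 0 D) := by
  obtain ⟨E, hE⟩ := h.exists_left_inv
  refine ⟨bordered 1 (r ᵥ* E) 0 1, isUnit_bordered_upper one_ne_zero isUnit_one _, ?_⟩
  have h2 : (r ᵥ* E) ᵥ* (D - a • 1) = r := by rw [vecMul_vecMul, hE, Matrix.vecMul_one]
  rw [Matrix.vecMul_sub, Matrix.vecMul_smul, Matrix.vecMul_one] at h2
  rw [bordered_mul, bordered_mul]
  congr 1 <;> simp [vecMulVec]
  rw [← vecMul_vecMul]
  linear_combination (norm := module) -h2

theorem Sim.isUnit_sub {P T : Matrix ι ι K} (h : Sim P T) {a : K} (hT : IsUnit (T - a • 1)) :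
    IsUnit (P - a • 1) := by
  obtain ⟨S, hS, e⟩ := h
  obtain ⟨Si, hSi⟩ := hS.exists_right_inv
  have : P - a • 1 = S * (T - a • 1) * Si := by
    rw [Matrix.mul_sub, Matrix.sub_mul, ← e, Matrix.mul_assoc P, hSi, Matrix.mul_one, Matrix.mul_smul, Matrix.mul_one,
      Matrix.smul_mul, hSi]
  rw [this]
  exact (hS.mul hT).mul (IsUnit.of_mul_eq_one S (mul_eq_one_comm.1 hSi))

theorem dec_bordered {k : ℕ} {a : K} (ha : a ≠ 0) {T S : Matrix (Fin k) (Fin k) K} (hT : IsUnit (T - a • 1))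
    (h : Dec T S) (c r : Fin k → K) : Dec (bordered a 0 0 T) (bordered 1 r c (vecMulVec c r + S)) := by
  obtain ⟨P, Q, hP, hQ, e⟩ := h
  refine ⟨bordered a 0 (a • c) P, bordered a (-(r ᵥ* Q)) 0 Q, (sim_bordered_lower (hP.isUnit_sub hT) _).trans
    (sim_bordered_diag a hP), (sim_bordered_upper (hQ.isUnit_sub hT) _).trans (sim_bordered_diag a hQ), ?_⟩
  rw [bordered_mul]
  congr 1
  · simp
  · simp
  · simp
  · rw [Matrix.add_mul, e, vecMulVec_neg, vecMulVec_mul]; abel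

/-- The model regular block. -/
def jmat (l : ℕ) (a : K) : Matrix (Fin l) (Fin l) K := a • (1 + shift l)

theorem shift_pow_self (l : ℕ) : (shift (K := K) l) ^ l = 0 := by
  ext i j; rw [shift_pow, if_neg (by omega), Matrix.zero_apply]

theorem jmat_sub (l : ℕ) (a d : K) : jmat l a - d • 1 = (a - d) • 1 + a • shift l := by
  rw [jmat]; module

theorem jmat_nil (l : ℕ) (a : K) : (jmat l a - a • 1) ^ l = 0 := by
  rw [jmat_sub, sub_self, zero_smul, zero_add, _root_.smul_pow, shift_pow_self, smul_zero]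

theorem isUnit_jmat_sub (l : ℕ) {a d : K} (h : a ≠ d) : IsUnit (jmat l a - d • 1) := by
  rw [jmat_sub]
  have hn : IsNilpotent (a • shift (K := K) l) := ⟨l, by rw [_root_.smul_pow, shift_pow_self, smul_zero]⟩
  exact hn.isUnit_add_left_of_commute (isUnit_one.smul (Units.mk0 _ (sub_ne_zero.2 h)))
    ((Commute.one_right _).smul_right _)

theorem sim_jmat {k : ℕ} {M : Matrix (Fin (k + 1)) (Fin (k + 1)) K} (h : (M - 1) ^ (k + 1) = 0)
    (h' : (M - 1) ^ k ≠ 0) (a : K) : Sim (a • M) (jmat (k + 1) a) := by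
  obtain ⟨e, he⟩ : ∃ e, ((M - 1) ^ k) *ᵥ e ≠ 0 := by
    by_contra hc
    push Not at hc
    exact h' (Matrix.ext_of_mulVec_single fun i => by rw [hc, Matrix.zero_mulVec])
  obtain ⟨Q, hQ⟩ := similar_shift (e := e) h (by simpa using he)
  refine ⟨Q.val, Q.isUnit, ?_⟩
  have e' : M * Q.val = Q.val * (1 + shift (k + 1)) := by
    rw [Matrix.sub_mul, Matrix.one_mul, sub_eq_iff_eq_add] at hQ
    rw [Matrix.mul_add, Matrix.mul_one, hQ]
    exact add_comm _ _
  rw [jmat, Matrix.smul_mul, Matrix.mul_smul, e']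

theorem dec_jmat_lu {k : ℕ} {L U : Matrix (Fin (k + 1)) (Fin (k + 1)) K} (hL : LowerReg L) (hU : LowerReg Uᵀ)
    (a : K) : Dec (jmat (k + 1) a) (L * U) := by
  obtain ⟨hU1, -, i, hi⟩ := hU
  obtain ⟨hL1, -, j, hj⟩ := hL
  have hU' : (U - 1) ^ (k + 1) = 0 := by
    apply Matrix.transpose_injective
    rw [Matrix.transpose_pow, Matrix.transpose_sub, Matrix.transpose_one, hU1, Matrix.transpose_zero]
  have hU'' : (U - 1) ^ k ≠ 0 := fun h => hi (by
    rw [← Matrix.transpose_one, ← Matrix.transpose_sub, ← Matrix.transpose_pow, h]; simp)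
  obtain ⟨Ui, hUi⟩ : ∃ Ui, U * Ui = 1 := by
    have h := IsNilpotent.isUnit_add_one ⟨_, hU'⟩
    rw [sub_add_cancel] at h
    exact h.exists_right_inv
  have hUi' : Ui * U = 1 := mul_eq_one_comm.1 hUi
  have hcomm : Commute Ui (U - 1) := by
    show Ui * (U - 1) = (U - 1) * Ui
    rw [Matrix.mul_sub, Matrix.sub_mul, hUi, hUi', Matrix.mul_one, Matrix.one_mul]
  have e : Ui - 1 = -(Ui * (U - 1)) := by rw [Matrix.mul_sub, hUi', Matrix.mul_one, neg_sub]
  refine ⟨a • L, a • Ui, sim_jmat hL1 (fun h => hj (by rw [h]; rfl)) a, sim_jmat ?_ ?_ a, ?_⟩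
  · rw [e, neg_pow, hcomm.mul_pow, hU', Matrix.mul_zero, Matrix.mul_zero]
  · intro h
    rw [e, neg_pow, hcomm.mul_pow] at h
    apply hU''
    have hu : IsUnit ((-1 : Matrix (Fin (k + 1)) (Fin (k + 1)) K) ^ k * Ui ^ k) :=
      (isUnit_one.neg.pow k).mul ((IsUnit.of_mul_eq_one U hUi').pow k)
    rw [← Matrix.mul_assoc] at h
    exact hu.mul_right_eq_zero.1 h
  · rw [Matrix.mul_smul, Matrix.mul_assoc, hUi, Matrix.mul_one]

theorem dec_jmat (hK : 4 ≤ Cardinal.mk K) {k : ℕ} {S : Matrix (Fin (k + 1)) (Fin (k + 1)) K} (hdet : S.det = 1)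
    (h : k = 0 ∨ Generic S) (a : K) : Dec (jmat (k + 1) a) S := by
  have h1 : (Pi.single 0 1 : Fin (k + 1) → K) ≠ 0 := fun h => by simpa using congrFun h 0
  obtain ⟨Q, L, U, hL, hU, hQ, -, -⟩ := CfsgLib.Classical.RegularProduct.exists_factor hK k S hdet h _ _ h1 h1
  exact Dec.of_sim Q.mul_inv hQ (dec_jmat_lu hL hU a)

/-- A transvection in standard position. -/
theorem exists_transvection_pos {k : ℕ} {A : Matrix (Fin (k + 2)) (Fin (k + 2)) K} (hdet : A.det = 1) (hA : A ≠ 1)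
    {u f : Fin (k + 2) → K} (h : A - 1 = vecMulVec u f) :
    ∃ P Pi' : Matrix (Fin (k + 2)) (Fin (k + 2)) K, P * Pi' = 1 ∧
      A * P = P * bordered 1 0 (Pi.single (Fin.last k) 1) 1 := by
  have hu : u ≠ 0 := fun e => hA (sub_eq_zero.1 (by rw [h, e, zero_vecMulVec]))
  have hf : f ≠ 0 := fun e => hA (sub_eq_zero.1 (by rw [h, e, vecMulVec_zero]))
  have hfu : f ⬝ᵥ u = 0 := by
    have h1 : (1 + vecMulVec u f).det = 1 := by rw [← h, add_sub_cancel, hdet]
    rw [vecMulVec_eq Unit, Matrix.det_one_add_replicateCol_mul_replicateRow] at h1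
    linear_combination h1
  obtain ⟨P, hP1, hP2⟩ := exists_last_first hu hf hfu
  refine ⟨P.val, P.inv, P.val_inv, ?_⟩
  rw [show A = 1 + vecMulVec u f by rw [← h, add_sub_cancel], Matrix.add_mul, Matrix.one_mul, vecMulVec_mul, hP2,
    ← hP1, ← mul_vecMulVec, show bordered 1 0 (Pi.single (Fin.last k) 1) 1 =
      (1 : Matrix (Fin (k + 2)) (Fin (k + 2)) K) + vecMulVec (Pi.single (Fin.last (k + 1)) 1) (Pi.single 0 1) by
      ext i j
      induction i using Fin.cases <;> induction j using Fin.cases <;>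
        simp [bordered, vecMulVec_apply, Matrix.one_apply, Fin.succ_ne_zero, (Fin.succ_ne_zero _).symm,
          Pi.single_apply, ← Fin.succ_last, Fin.succ_inj],
    Matrix.mul_add, Matrix.mul_one]

/-- First model: one isolated eigenvalue. -/
theorem dec_one_block (hK : 4 ≤ Cardinal.mk K) {a b : K} (ha : a ≠ 0) (hab : a ≠ b) :
    ∀ {l : ℕ} (A : Matrix (Fin (l + 1)) (Fin (l + 1)) K), A.det = 1 → A 0 0 = 1 →
      Dec (bordered a 0 0 (jmat l b)) A := by
  intro l A hdet h00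
  have hu : IsUnit (jmat l b - a • 1) := isUnit_jmat_sub l hab.symm
  by_cases h1 : A = 1
  · rw [h1]; exact dec_one _
  rcases l with _ | k
  · refine absurd (Matrix.ext fun i j => ?_) h1
    rw [Fin.fin_one_eq_zero i, Fin.fin_one_eq_zero j, h00, Matrix.one_apply_eq]
  by_cases hgen : Generic A
  · have h1 : (Pi.single 0 1 : Fin (k + 2) → K) ≠ 0 := fun h => by simpa using congrFun h 0
    obtain ⟨P, Pi', c, r, S, hP, hA, hS, hgS, -, -, -, -⟩ := exists_peel hK k hdet hgen h1 h1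
    exact Dec.of_sim hP hA (dec_bordered ha hu (dec_jmat hK hS hgS b) c r)
  · have hns : ¬ ∃ c : K, A = c • 1 := fun ⟨c, hc⟩ => h1 (by
      rw [hc, Matrix.smul_apply, Matrix.one_apply_eq, smul_eq_mul, mul_one] at h00
      rw [hc, h00, one_smul])
    simp only [Generic, hns, not_false_eq_true, true_and, not_forall, not_not] at hgen
    obtain ⟨u, f, huf⟩ := hgen
    obtain ⟨P, Pi', hP, hA⟩ := exists_transvection_pos hdet h1 huf
    refine Dec.of_sim hP hA ?_
    simpa using dec_bordered ha hu (dec_one _) (Pi.single (Fin.last k) 1) 0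

end CfsgLib.SUComm
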