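import Cfsg.Agent.Lib.Classical.SUComm.AMat
import Cfsg.Agent.Lib.Classical.SpComm.Witness

/-!
# The model with an irreducible block of size two
-/

set_option autoImplicit false
set_option linter.unusedSectionVars false

namespace CfsgLib.SUComm

open Matrix Polynomial
open CfsgLib.Classical.RegularProduct

variable {K : Type*} [Field K] {ι κ : Type*} [Fintype ι] [DecidableEq ι] [Fintype κ] [DecidableEq κ]

theorem Sim.aeval_eq_zero {P T : Matrix ι ι K} (h : Sim P T) {p : K[X]} (hp : aeval T p = 0) : aeval P p = 0 := by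
  obtain ⟨S, hS, e⟩ := h
  have := aeval_semiconj e p
  rw [hp, Matrix.mul_zero] at this
  exact hS.mul_left_eq_zero.1 this

theorem Sim.isUnit_aeval {P T : Matrix ι ι K} (h : Sim P T) {p : K[X]} (hp : IsUnit (aeval T p)) :
    IsUnit (aeval P p) := by
  obtain ⟨S, hS, e⟩ := h
  obtain ⟨u, rfl⟩ := hS
  have e2 : aeval P p = (u : Matrix ι ι K) * aeval T p * ((u⁻¹ : (Matrix ι ι K)ˣ) : Matrix ι ι K) := by
    rw [← aeval_semiconj e p, Units.mul_inv_cancel_right]
  rw [e2]
  exact (u.isUnit.mul hp).mul (u⁻¹).isUnit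

theorem sim_fromBlocks_diag {P T : Matrix ι ι K} {Q U : Matrix κ κ K} (h : Sim P T) (h' : Sim Q U) :
    Sim (fromBlocks P 0 0 Q) (fromBlocks T 0 0 U) := by
  obtain ⟨S, hS, e⟩ := h
  obtain ⟨S', hS', e'⟩ := h'
  exact ⟨fromBlocks S 0 0 S', SpComm.isUnit_fromBlocks_diag hS hS', by simp [fromBlocks_multiply, e, e']⟩

theorem sim_fromBlocks_upper {P : Matrix ι ι K} {Q : Matrix κ κ K} {p : K[X]} (hP : aeval P p = 0)
    (hQ : IsUnit (aeval Q p)) (w : Matrix ι κ K) : Sim (fromBlocks P w 0 Q) (fromBlocks P 0 0 Q) := by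
  let L : Matrix ι κ K →ₗ[K] Matrix ι κ K :=
    { toFun := fun u => P * u - u * Q
      map_add' := fun a b => by simp [Matrix.mul_add, Matrix.add_mul]; abel
      map_smul' := fun c a => by simp [smul_sub] }
  have hL : Function.Injective L := by
    rw [← LinearMap.ker_eq_bot, LinearMap.ker_eq_bot']
    intro u hu
    have e : fromBlocks P 0 0 Q * fromBlocks 0 u 0 0 = fromBlocks 0 u 0 0 * fromBlocks P 0 0 Q := by
      simp [fromBlocks_multiply, sub_eq_zero.1 (show P * u - u * Q = 0 from hu)]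
    have h := aeval_semiconj e p
    simp [SpComm.aeval_fromBlocks, fromBlocks_multiply, hP, ← fromBlocks_zero, fromBlocks_inj] at h
    obtain ⟨R, hR⟩ := hQ.exists_right_inv
    rw [← Matrix.mul_one u, ← hR, ← Matrix.mul_assoc, ← h]
    simp
  obtain ⟨u, hu⟩ := (LinearMap.injective_iff_surjective.1 hL) (-w)
  refine ⟨fromBlocks 1 u 0 1, (isUnit_iff_isUnit_det _).2 (by simp), ?_⟩
  have hu2 : P * u - u * Q = -w := hu
  have hu' : P * u + w = u * Q := by rw [sub_eq_iff_eq_add.1 hu2]; abel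
  simp [fromBlocks_multiply, hu']

theorem sim_fromBlocks_lower {P : Matrix ι ι K} {Q : Matrix κ κ K} {p : K[X]} (hP : aeval P p = 0)
    (hQ : IsUnit (aeval Q p)) (z : Matrix κ ι K) : Sim (fromBlocks P 0 z Q) (fromBlocks P 0 0 Q) := by
  let L : Matrix κ ι K →ₗ[K] Matrix κ ι K :=
    { toFun := fun u => Q * u - u * P
      map_add' := fun a b => by simp [Matrix.mul_add, Matrix.add_mul]; abel
      map_smul' := fun c a => by simp [smul_sub] }
  have hL : Function.Injective L := by
    rw [← LinearMap.ker_eq_bot, LinearMap.ker_eq_bot']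
    intro u hu
    have e : fromBlocks P 0 0 Q * fromBlocks 0 0 u 0 = fromBlocks 0 0 u 0 * fromBlocks P 0 0 Q := by
      simp [fromBlocks_multiply, sub_eq_zero.1 (show Q * u - u * P = 0 from hu)]
    have h := aeval_semiconj e p
    simp [SpComm.aeval_fromBlocks, fromBlocks_multiply, hP, ← fromBlocks_zero, fromBlocks_inj] at h
    obtain ⟨R, hR⟩ := hQ.exists_left_inv
    rw [← Matrix.one_mul u, ← hR, Matrix.mul_assoc, h]
    simp
  obtain ⟨u, hu⟩ := (LinearMap.injective_iff_surjective.1 hL) (-z)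
  refine ⟨fromBlocks 1 0 u 1, (isUnit_iff_isUnit_det _).2 (by simp), ?_⟩
  have hu2 : Q * u - u * P = -z := hu
  have hu' : z + Q * u = u * P := by rw [sub_eq_iff_eq_add.1 hu2]; abel
  simp [fromBlocks_multiply, hu']

theorem dec_fromBlocks {T A A' : Matrix ι ι K} {U S : Matrix κ κ K} {p : K[X]} (hT : aeval T p = 0)
    (hU : IsUnit (aeval U p)) (hA : A * A' = 1) (h : Dec T A) (h' : Dec U S) (B : Matrix ι κ K) (C : Matrix κ ι K) :
    Dec (fromBlocks T 0 0 U) (fromBlocks A B C (C * A' * B + S)) := by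
  obtain ⟨P, Q, hP, hQ, e⟩ := h
  obtain ⟨P', Q', hP', hQ', e'⟩ := h'
  refine ⟨fromBlocks P 0 (C * Q) P', fromBlocks Q (-(A' * B * Q')) 0 Q',
    (sim_fromBlocks_lower (hP.aeval_eq_zero hT) (hP'.isUnit_aeval hU) _).trans (sim_fromBlocks_diag hP hP'),
    (sim_fromBlocks_upper (hQ.aeval_eq_zero hT) (hQ'.isUnit_aeval hU) _).trans (sim_fromBlocks_diag hQ hQ'), ?_⟩
  rw [fromBlocks_multiply]
  congr 1
  · simp [e]
  · rw [Matrix.mul_neg, ← Matrix.mul_assoc, ← Matrix.mul_assoc, hA, Matrix.one_mul, neg_add_cancel]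
  · simp
  · rw [Matrix.mul_neg, Matrix.add_mul, e']
    simp only [Matrix.mul_assoc]
    abel

/-- The companion matrix. -/
def comp2 (τ δ : K) : Matrix (Fin 2) (Fin 2) K := !![0, -δ; 1, τ]

/-- `X² - τ X + δ` has no root. -/
def NoRoot (τ δ : K) : Prop := ∀ x : K, x ^ 2 - τ * x + δ ≠ 0

theorem sim_comp2 {τ δ a b c : K} (h : NoRoot τ δ) (hd : a * (τ - a) - b * c = δ) :
    Sim !![a, b; c, τ - a] (comp2 τ δ) := by
  have hc : c ≠ 0 := fun e => h a (by rw [e] at hd; linear_combination -hd)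
  refine ⟨!![1, a; 0, c], (isUnit_iff_isUnit_det _).2 (by simpa [det_fin_two] using hc), ?_⟩
  ext i j
  fin_cases i <;> fin_cases j <;> simp [comp2, Matrix.mul_apply, Fin.sum_univ_two] <;>
    first | ring1 | linear_combination -hd | linear_combination hd

theorem dec_comp2 [Fintype K] {τ δ : K} (hτ : τ ≠ 0) (hδ : δ ≠ 0) (h : NoRoot τ δ) {u l : K} (hu : u ≠ 0)
    (hl : l ≠ 0) : Dec (comp2 τ δ) !![1, u; l, 1 + l * u] := by
  obtain ⟨a, b, hab⟩ : ∃ a b : K, a * (τ - a) - b * (l * a - l / u * b) = δ := by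
    rcases eq_or_ne (ringChar K) 2 with h2 | h2
    · obtain ⟨b, hb⟩ := FiniteField.isSquare_of_char_two h2 (δ * u / l)
      refine ⟨0, b, ?_⟩
      field_simp at hb ⊢
      linear_combination -hb
    · have h2' : (2 : K) ≠ 0 := Ring.two_ne_zero h2
      rcases eq_or_ne (l * (4 + l * u)) 0 with h4 | h4
      · have h4' : l * u = -4 := by linear_combination (mul_eq_zero.1 h4).resolve_left hl
        refine ⟨-(l * (-2 * δ / (τ * l))) / 2, -2 * δ / (τ * l), ?_⟩
        field_simp
        linear_combination δ * h4'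
      · obtain ⟨x, y, hxy⟩ := FiniteField.exists_root_sum_quadratic (R := K)
          (f := Polynomial.C (-1) * X ^ 2 + Polynomial.C τ * X + Polynomial.C (-δ))
          (g := Polynomial.C (l * (4 + l * u) / (4 * u)) * X ^ 2 + Polynomial.C (-(τ * l / 2)) * X + Polynomial.C 0)
          (degree_quadratic (by norm_num)) (degree_quadratic (by
            refine div_ne_zero h4 (mul_ne_zero ?_ hu)
            rw [show (4 : K) = 2 * 2 by norm_num]; exact mul_ne_zero h2' h2'))
          (FiniteField.odd_card_of_char_ne_two h2)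
        simp only [eval_add, eval_mul, eval_pow, eval_C, eval_X] at hxy
        refine ⟨x - l * y / 2, y, ?_⟩
        have h4n : (4 : K) ≠ 0 := by rw [show (4 : K) = 2 * 2 by norm_num]; exact mul_ne_zero h2' h2'
        field_simp at hxy ⊢
        apply mul_left_cancel₀ h2'
        linear_combination hxy
  obtain ⟨c, hc⟩ : ∃ c, c = l * a - l / u * b := ⟨_, rfl⟩
  rw [← hc] at hab
  have hc' : u * c = l * u * a - l * b := by rw [hc]; field_simp
  refine ⟨!![a, b; c, τ - a], !![(1 + l * u) * a - u * c, (1 + l * u) * b - u * (τ - a); c - l * a, τ - ((1 + l * u) * a - u * c)],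
    sim_comp2 h hab, sim_comp2 h (by linear_combination hab + ((1 + l * u) * a - u * c) * hc'), ?_⟩
  ext i j
  fin_cases i <;> fin_cases j <;> simp [Matrix.mul_apply, Fin.sum_univ_two] <;>
    first | ring1 | linear_combination hc' | linear_combination -hc' | linear_combination (-u) * hc' | linear_combination u * hc' | linear_combination (1 + l * u) * hc' | linear_combination -(1 + l * u) * hc'

/-- Two leading indices and the rest. -/
def e2 (l : ℕ) : Fin 2 ⊕ Fin l ≃ Fin (l + 2) where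
  toFun := Sum.elim ![0, (Fin.succ 0)] fun j => j.succ.succ
  invFun := Fin.cons (Sum.inl 0) (Fin.cons (Sum.inl 1) Sum.inr)
  left_inv x := by rcases x with i | j; · fin_cases i <;> simp
                   · simp
  right_inv x := by
    induction x using Fin.cases with
    | zero => simp
    | succ x => induction x using Fin.cases <;> simp

theorem bordered_one_idx {l : ℕ} (a : K) (r c : Fin (l + 1) → K) (D : Matrix (Fin (l + 1)) (Fin (l + 1)) K) :
    (∀ j : Fin (l + 1), bordered a r c D 1 j.succ = D 0 j) ∧ (∀ i : Fin (l + 1), bordered a r c D i.succ 1 = D i 0) ∧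
      bordered a r c D 0 1 = r 0 ∧ bordered a r c D 1 0 = c 0 ∧ bordered a r c D 1 1 = D 0 0 := by
  rw [← Fin.succ_zero_eq_one]
  simp only [bordered_ss, bordered_0s, bordered_s0, implies_true, and_self]

theorem bordered_twice {l : ℕ} (r c : Fin (l + 1) → K) (r' c' : Fin l → K) (S : Matrix (Fin l) (Fin l) K) :
    ∃ B C, (bordered 1 r c (vecMulVec c r + bordered 1 r' c' (vecMulVec c' r' + S))).submatrix (e2 l) (e2 l) =
      fromBlocks !![1, r 0; c 0, 1 + c 0 * r 0] B C (C * !![1 + c 0 * r 0, -r 0; -c 0, 1] * B + S) := by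
  refine ⟨Matrix.of fun i j => ![r j.succ, c 0 * r j.succ + r' j] i,
    Matrix.of fun i j => ![c i.succ, c i.succ * r 0 + c' i] j, ?_⟩
  obtain ⟨z1, z2, z3, z4, z5⟩ := bordered_one_idx (1 : K) r c (vecMulVec c r + bordered 1 r' c' (vecMulVec c' r' + S))
  ext (i | i) (j | j)
  · fin_cases i <;> fin_cases j <;> (simp [e2, vecMulVec_apply, z3, z4, z5]; try ring)
  · fin_cases i <;> simp [e2, vecMulVec_apply, z1]
  · fin_cases j <;> simp [e2, vecMulVec_apply, z2]
  · simp [e2, vecMulVec_apply, Matrix.mul_apply, Fin.sum_univ_two]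
    ring

/-- Second model: an irreducible block of size two. -/
theorem dec_two_block [Fintype K] (hK : 4 ≤ Cardinal.mk K) {τ δ b : K} (hτ : τ ≠ 0) (hδ : δ ≠ 0)
    (h : NoRoot τ δ) {l : ℕ} (A : Matrix (Fin (l + 3)) (Fin (l + 3)) K) (hdet : A.det = 1) (h00 : A 0 0 = 1) :
    Dec (fromBlocks (comp2 τ δ) 0 0 (jmat (l + 1) b)) (A.submatrix (e2 (l + 1)) (e2 (l + 1))) := by
  obtain ⟨p, hp⟩ : ∃ p : K[X], p = X ^ 2 - Polynomial.C τ * X + Polynomial.C δ := ⟨_, rfl⟩
  have hp0 : aeval (comp2 τ δ) p = 0 := by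
    rw [hp]
    simp only [map_add, map_sub, map_mul, map_pow, aeval_X, aeval_C, Algebra.algebraMap_eq_smul_one]
    ext i j
    fin_cases i <;> fin_cases j <;> simp [comp2, sq, Matrix.mul_apply, Fin.sum_univ_two] <;> ring
  have hp1 : IsUnit (aeval (jmat (l + 1) b) p) := by
    have e : aeval (jmat (l + 1) b) p = (b ^ 2 - τ * b + δ) • 1 +
        shift (l + 1) * ((b * (2 * b - τ)) • 1 + (b ^ 2) • shift (l + 1)) := by
      rw [hp]
      simp only [map_add, map_sub, map_mul, map_pow, aeval_X, aeval_C, Algebra.algebraMap_eq_smul_one, jmat, sq]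
      simp only [Matrix.mul_add, Matrix.add_mul, Matrix.smul_mul, Matrix.mul_smul, Matrix.one_mul, Matrix.mul_one,
        smul_add, smul_smul, add_smul, sub_smul, mul_sub]
      module
    rw [e]
    refine IsNilpotent.isUnit_add_left_of_commute ⟨l + 1, ?_⟩ (isUnit_one.smul (Units.mk0 _ (h b)))
      ((Commute.one_right _).smul_right _)
    rw [Commute.mul_pow, shift_pow_self, Matrix.zero_mul]
    exact ((Commute.one_right _).smul_right _).add_right ((Commute.refl _).smul_right _)
  by_cases h1 : A = 1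
  · rw [h1, submatrix_one_equiv]; exact dec_one _
  have trans : ∀ (P Pi' A' : Matrix (Fin (l + 3)) (Fin (l + 3)) K), P * Pi' = 1 → A * P = P * A' →
      Dec (fromBlocks (comp2 τ δ) 0 0 (jmat (l + 1) b)) (A'.submatrix (e2 (l + 1)) (e2 (l + 1))) →
      Dec (fromBlocks (comp2 τ δ) 0 0 (jmat (l + 1) b)) (A.submatrix (e2 (l + 1)) (e2 (l + 1))) := by
    intro P Pi' A' hP hA hd
    refine Dec.of_sim (S := P.submatrix (e2 (l + 1)) (e2 (l + 1))) (Si := Pi'.submatrix (e2 (l + 1)) (e2 (l + 1)))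
      ?_ ?_ hd
    · rw [submatrix_mul_equiv, hP, submatrix_one_equiv]
    · rw [submatrix_mul_equiv, submatrix_mul_equiv, hA]
  by_cases hgen : Generic A
  · have h1 : (Pi.single 0 1 : Fin (l + 3) → K) ≠ 0 := fun h => by simpa using congrFun h 0
    obtain ⟨P, Pi', c, r, S, hP, hA, hS, hgS, hc, hr, -, -⟩ := exists_peel hK (l + 1) hdet hgen h1 h1
    obtain ⟨P', Pi'', c', r', S', hP', hA', hS', hgS', -, -, hl, hu⟩ :=
      exists_peel hK l hS (hgS.resolve_left (Nat.succ_ne_zero l)) hc hr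
    refine trans (P * bordered 1 0 0 P') (bordered 1 0 0 Pi'' * Pi')
      (bordered 1 (r ᵥ* P') (Pi'' *ᵥ c) (vecMulVec (Pi'' *ᵥ c) (r ᵥ* P') + bordered 1 r' c' (vecMulVec c' r' + S')))
      ?_ ?_ ?_
    · rw [Matrix.mul_assoc, ← Matrix.mul_assoc (bordered 1 0 0 P'), bordered_diag_mul, hP', one_mul, ← bordered_one,
        Matrix.one_mul, hP]
    · rw [← Matrix.mul_assoc, hA, Matrix.mul_assoc, Matrix.mul_assoc P, bordered_mul, bordered_mul]
      congr 2
      · simp
      · simp
      · simp [mulVec_mulVec, hP']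
      · simp [Matrix.mul_add, mul_vecMulVec, mulVec_mulVec, hP', Matrix.add_mul, vecMulVec_mul, hA']
    obtain ⟨B, C, e⟩ := bordered_twice (r ᵥ* P') (Pi'' *ᵥ c) r' c' S'
    rw [e]
    refine dec_fromBlocks hp0 hp1 ?_ (dec_comp2 hτ hδ h hu hl) (dec_jmat hK hS' hgS' b) B C
    ext i j
    fin_cases i <;> fin_cases j <;> simp [Matrix.mul_apply, Fin.sum_univ_two] <;> ring
  · have hns : ¬ ∃ c : K, A = c • 1 := fun ⟨c, hc⟩ => h1 (by
      rw [hc, Matrix.smul_apply, Matrix.one_apply_eq, smul_eq_mul, mul_one] at h00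
      rw [hc, h00, one_smul])
    simp only [Generic, hns, not_false_eq_true, true_and, not_forall, not_not] at hgen
    obtain ⟨u, f, huf⟩ := hgen
    obtain ⟨P, Pi', hP, hA⟩ := exists_transvection_pos hdet h1 huf
    refine trans P Pi' _ hP hA ?_
    obtain ⟨B, C, e⟩ := bordered_twice (0 : Fin (l + 2) → K) (Pi.single (Fin.last (l + 1)) 1) 0 0 1
    simp only [vecMulVec_zero, zero_add, ← bordered_one] at e
    rw [e]
    refine dec_fromBlocks hp0 hp1 ?_ ?_ (dec_one _) B C
    · ext i j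
      fin_cases i <;> fin_cases j <;> simp [Matrix.mul_apply, Fin.sum_univ_two, Fin.ext_iff]
    · convert dec_one (comp2 τ δ) using 1
      ext i j
      fin_cases i <;> fin_cases j <;> simp [Fin.ext_iff]

end CfsgLib.SUComm
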