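import Mathlib

/-!
# Three-by-three block matrices for the hyperbolic Hermitian Gram matrix

`ct σ M` is the conjugate transpose, `gram α β` the Gram matrix of a frame consisting of two dual totally
isotropic families indexed by `α` and an orthonormal family indexed by `β`.
-/

set_option autoImplicit false
set_option linter.unusedSectionVars false

namespace CfsgLib.SUComm

open Matrix

variable {F : Type*} [Field F] (σ : F →+* F)

/-- The conjugate transpose. -/
def ct {a b : Type*} (M : Matrix a b F) : Matrix b a F := (M.map σ)ᵀ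

theorem ct_mul {a b c : Type*} [Fintype b] (M : Matrix a b F) (N : Matrix b c F) :
    ct σ (M * N) = ct σ N * ct σ M := by
  rw [ct, ct, ct, Matrix.map_mul, transpose_mul]

@[simp] theorem ct_one {a : Type*} [DecidableEq a] : ct σ (1 : Matrix a a F) = 1 := by
  simp [ct]

@[simp] theorem ct_zero {a b : Type*} : ct σ (0 : Matrix a b F) = 0 := by
  simp [ct]

@[simp] theorem ct_add {a b : Type*} (M N : Matrix a b F) : ct σ (M + N) = ct σ M + ct σ N := by
  ext i j; simp [ct]

@[simp] theorem ct_neg {a b : Type*} (M : Matrix a b F) : ct σ (-M) = -ct σ M := by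
  ext i j; simp [ct]

@[simp] theorem ct_sub {a b : Type*} (M N : Matrix a b F) : ct σ (M - N) = ct σ M - ct σ N := by
  ext i j; simp [ct]

@[simp] theorem ct_smul {a b : Type*} (c : F) (M : Matrix a b F) : ct σ (c • M) = σ c • ct σ M := by
  ext i j; simp [ct]

theorem ct_ct {a b : Type*} (hσ : ∀ x, σ (σ x) = x) (M : Matrix a b F) : ct σ (ct σ M) = M := by
  ext i j; simp [ct, hσ]

theorem det_ct {a : Type*} [Fintype a] [DecidableEq a] (M : Matrix a a F) : (ct σ M).det = σ M.det := by
  rw [ct, det_transpose, RingHom.map_det]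
  rfl

theorem ct_apply {a b : Type*} (M : Matrix a b F) (i : b) (j : a) : ct σ M i j = σ (M j i) := rfl

theorem ct_submatrix {a b c d : Type*} (M : Matrix a b F) (r : c → a) (s : d → b) :
    ct σ (M.submatrix r s) = (ct σ M).submatrix s r := rfl

section Blocks

variable {α β : Type*}

/-- A matrix in three-by-three blocks. -/
def blk (a : Matrix α α F) (b : Matrix α β F) (c : Matrix α α F) (d : Matrix β α F) (e : Matrix β β F)
    (f : Matrix β α F) (g : Matrix α α F) (h : Matrix α β F) (i : Matrix α α F) :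
    Matrix (α ⊕ (β ⊕ α)) (α ⊕ (β ⊕ α)) F :=
  fromBlocks a (fromCols b c) (fromRows d g) (fromBlocks e f h i)

variable {a a' : Matrix α α F} {b b' : Matrix α β F} {c c' : Matrix α α F} {d d' : Matrix β α F}
  {e e' : Matrix β β F} {f f' : Matrix β α F} {g g' : Matrix α α F} {h h' : Matrix α β F} {i i' : Matrix α α F}

theorem blk_inj :
    blk a b c d e f g h i = blk a' b' c' d' e' f' g' h' i' ↔
      a = a' ∧ b = b' ∧ c = c' ∧ d = d' ∧ e = e' ∧ f = f' ∧ g = g' ∧ h = h' ∧ i = i' := by
  simp only [blk, fromBlocks_inj, fromCols_inj.eq_iff, fromRows_inj.eq_iff]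
  tauto

theorem exists_blk (M : Matrix (α ⊕ (β ⊕ α)) (α ⊕ (β ⊕ α)) F) :
    ∃ a b c d e f g h i, M = blk a b c d e f g h i := by
  refine ⟨M.toBlocks₁₁, M.toBlocks₁₂.toCols₁, M.toBlocks₁₂.toCols₂, M.toBlocks₂₁.toRows₁,
    M.toBlocks₂₂.toBlocks₁₁, M.toBlocks₂₂.toBlocks₁₂, M.toBlocks₂₁.toRows₂,
    M.toBlocks₂₂.toBlocks₂₁, M.toBlocks₂₂.toBlocks₂₂, ?_⟩
  rw [blk, fromCols_toCols, fromRows_toRows, fromBlocks_toBlocks, fromBlocks_toBlocks]

theorem blk_mul [Fintype α] [Fintype β] :
    blk a b c d e f g h i * blk a' b' c' d' e' f' g' h' i' =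
      blk (a * a' + b * d' + c * g') (a * b' + b * e' + c * h') (a * c' + b * f' + c * i')
        (d * a' + e * d' + f * g') (d * b' + e * e' + f * h') (d * c' + e * f' + f * i')
        (g * a' + h * d' + i * g') (g * b' + h * e' + i * h') (g * c' + h * f' + i * i') := by
  ext (r | r | r) (s | s | s) <;>
    simp [blk, Matrix.mul_apply, Fintype.sum_sum_type, add_assoc]

theorem ct_blk :
    ct σ (blk a b c d e f g h i) =
      blk (ct σ a) (ct σ d) (ct σ g) (ct σ b) (ct σ e) (ct σ h) (ct σ c) (ct σ f) (ct σ i) := by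
  ext (r | r | r) (s | s | s) <;> simp [blk, ct]

theorem blk_one [DecidableEq α] [DecidableEq β] :
    (1 : Matrix (α ⊕ (β ⊕ α)) (α ⊕ (β ⊕ α)) F) = blk 1 0 0 0 1 0 0 0 1 := by
  ext (r | r | r) (s | s | s) <;> simp [blk, Matrix.one_apply]

/-- The Gram matrix of a frame. -/
def gram (α β : Type*) [DecidableEq α] [DecidableEq β] : Matrix (α ⊕ (β ⊕ α)) (α ⊕ (β ⊕ α)) F :=
  blk 0 0 1 0 1 0 1 0 0

variable [Fintype α] [DecidableEq α] [Fintype β] [DecidableEq β]

theorem gram_mul_gram : gram (F := F) α β * gram α β = 1 := by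
  simp [gram, blk_mul, blk_one]

theorem ct_gram : ct σ (gram (F := F) α β) = gram α β := by
  simp [gram, ct_blk]

theorem det_blk_lower : (blk a 0 0 d e 0 g h i).det = a.det * (e.det * i.det) := by
  rw [blk, fromCols_zero, det_fromBlocks_zero₁₂, det_fromBlocks_zero₁₂]

theorem det_blk_upper : (blk a b c 0 e f 0 0 i).det = a.det * (e.det * i.det) := by
  rw [blk, fromRows_zero, det_fromBlocks_zero₂₁, det_fromBlocks_zero₂₁]

/-- `M` preserves the form of Gram matrix `gram`. -/
def GUn (M : Matrix (α ⊕ (β ⊕ α)) (α ⊕ (β ⊕ α)) F) : Prop :=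
  ct σ M * gram α β * M = gram α β

theorem GUn.mul {M N : Matrix (α ⊕ (β ⊕ α)) (α ⊕ (β ⊕ α)) F} (hM : GUn σ M) (hN : GUn σ N) :
    GUn σ (M * N) := by
  rw [GUn, ct_mul]
  calc ct σ N * ct σ M * gram α β * (M * N) = ct σ N * (ct σ M * gram α β * M) * N := by
        simp only [Matrix.mul_assoc]
    _ = gram α β := by rw [hM]; exact hN

/-- The inverse of an isometry. -/
theorem GUn.inv_mul {M : Matrix (α ⊕ (β ⊕ α)) (α ⊕ (β ⊕ α)) F} (hM : GUn σ M) :
    gram α β * ct σ M * gram α β * M = 1 := by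
  calc gram α β * ct σ M * gram α β * M = gram α β * (ct σ M * gram α β * M) := by
        simp only [Matrix.mul_assoc]
    _ = 1 := by rw [hM]; exact gram_mul_gram

theorem GUn.mul_inv {M : Matrix (α ⊕ (β ⊕ α)) (α ⊕ (β ⊕ α)) F} (hM : GUn σ M) :
    M * (gram α β * ct σ M * gram α β) = 1 :=
  mul_eq_one_comm.1 hM.inv_mul

theorem GUn.inverse (hσ : ∀ x, σ (σ x) = x) {M : Matrix (α ⊕ (β ⊕ α)) (α ⊕ (β ⊕ α)) F} (hM : GUn σ M) :
    GUn σ (gram α β * ct σ M * gram α β) := by
  rw [GUn, ct_mul, ct_mul, ct_ct σ hσ, ct_gram]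
  calc gram α β * (M * gram α β) * gram α β * (gram α β * ct σ M * gram α β)
      = gram α β * (M * (gram α β * (gram α β * gram α β)) * ct σ M * gram α β) := by
        simp only [Matrix.mul_assoc]
    _ = gram α β * (M * (gram α β * ct σ M * gram α β)) := by
        rw [gram_mul_gram, Matrix.mul_one]; simp only [Matrix.mul_assoc]
    _ = gram α β := by rw [hM.mul_inv, Matrix.mul_one]

end Blocks

end CfsgLib.SUComm
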