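import Cfsg.Agent.Lib.Classical.SUComm.Basic

/-!
# Block factorisation of an isometry along an isotropic subspace

If the corner block `a` of an isometry `M` is invertible then `M = low * up` with both factors isometries,
`low` block lower unitriangular and `up` block upper triangular with diagonal `a`, an isometry, and `(ct a)⁻¹`.
-/

set_option autoImplicit false
set_option linter.unusedSectionVars false

namespace CfsgLib.SUComm

open Matrix

variable {F : Type*} [Field F] (σ : F →+* F)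
variable {α β : Type*} [Fintype α] [DecidableEq α] [Fintype β] [DecidableEq β]

theorem gun_low {X : Matrix β α F} {Y : Matrix α α F} (hσ : ∀ x, σ (σ x) = x)
    (h : Y + ct σ X * X + ct σ Y = 0) :
    GUn σ (blk 1 0 0 X 1 0 Y (-ct σ X) 1) := by
  simp only [GUn, gram, ct_blk, blk_mul, blk_inj]
  refine ⟨?_, ?_, ?_, ?_, ?_, ?_, ?_, ?_, ?_⟩ <;> simp [ct_ct σ hσ]
  · rw [← h]; abel

theorem exists_factor (hσ : ∀ x, σ (σ x) = x) {a : Matrix α α F} {b : Matrix α β F} {c : Matrix α α F}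
    {d : Matrix β α F} {e : Matrix β β F} {f : Matrix β α F} {g : Matrix α α F} {h : Matrix α β F}
    {i : Matrix α α F} (hM : GUn σ (blk a b c d e f g h i)) {ai : Matrix α α F} (ha : a * ai = 1) :
    ∃ (X : Matrix β α F) (Y : Matrix α α F) (c' : Matrix α α F) (f' : Matrix β α F) (i' : Matrix α α F),
      GUn σ (blk 1 0 0 X 1 0 Y (-ct σ X) 1) ∧ GUn σ (blk a b c' 0 (e - d * ai * b) f' 0 0 i') ∧
      blk a b c d e f g h i = blk 1 0 0 X 1 0 Y (-ct σ X) 1 * blk a b c' 0 (e - d * ai * b) f' 0 0 i' ∧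
      ct σ a * i' = 1 ∧ ct σ (e - d * ai * b) * (e - d * ai * b) = 1 := by
  have hai : ai * a = 1 := mul_eq_one_comm.1 ha
  have h11 : ct σ a * g + ct σ d * d + ct σ g * a = 0 := by
    have h' := hM
    simp only [GUn, gram, ct_blk, blk_mul, blk_inj] at h'
    simpa [add_comm, add_left_comm, add_assoc] using h'.1
  obtain ⟨X, hX⟩ : ∃ X, X = d * ai := ⟨_, rfl⟩
  obtain ⟨Y, hY⟩ : ∃ Y, Y = g * ai := ⟨_, rfl⟩
  have hd : X * a = d := by rw [hX, Matrix.mul_assoc, hai, Matrix.mul_one]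
  have hg : Y * a = g := by rw [hY, Matrix.mul_assoc, hai, Matrix.mul_one]
  have hca : ct σ ai * ct σ a = 1 := by rw [← ct_mul, ha, ct_one]
  have hrel : Y + ct σ X * X + ct σ Y = 0 := by
    have : ct σ ai * (ct σ a * g + ct σ d * d + ct σ g * a) * ai = 0 := by rw [h11]; simp
    rw [← this, hY, hX, ct_mul, ct_mul]
    simp only [Matrix.mul_add, Matrix.add_mul, Matrix.mul_assoc, ha, Matrix.mul_one]
    rw [← Matrix.mul_assoc (ct σ ai) (ct σ a), hca, Matrix.one_mul]
  have hN := gun_low σ hσ hrel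
  set N := blk 1 0 0 X 1 0 Y (-ct σ X) 1 with hNdef
  set Ni := gram α β * ct σ N * gram α β with hNidef
  have hNi : Ni = blk 1 0 0 (-X) 1 0 (ct σ Y) (ct σ X) 1 := by
    simp [hNidef, hNdef, gram, ct_blk, blk_mul, ct_ct σ hσ]
  have hU : GUn σ (Ni * blk a b c d e f g h i) := GUn.mul σ (hN.inverse σ hσ) hM
  rw [hNi, blk_mul] at hU
  have h21 : -X * a + (1 : Matrix β β F) * d + (0 : Matrix β α F) * g = 0 := by simp [hd]
  have h31 : ct σ Y * a + ct σ X * d + (1 : Matrix α α F) * g = 0 := by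
    rw [← hd, ← hg, Matrix.one_mul, ← Matrix.mul_assoc, ← Matrix.add_mul, ← Matrix.add_mul]
    have : ct σ Y + ct σ X * X + Y = 0 := by rw [← hrel]; abel
    rw [this, Matrix.zero_mul]
  have h22 : -X * b + (1 : Matrix β β F) * e + (0 : Matrix β α F) * h = e - d * ai * b := by
    rw [← hX, Matrix.neg_mul, Matrix.one_mul, Matrix.zero_mul, add_zero, sub_eq_add_neg, add_comm]
  rw [h21, h31, h22] at hU
  simp only [Matrix.one_mul, Matrix.zero_mul, add_zero] at hU
  obtain ⟨f', hf'⟩ : ∃ f', f' = -X * c + f := ⟨_, rfl⟩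
  obtain ⟨h', hh'⟩ : ∃ h', h' = ct σ Y * b + ct σ X * e + h := ⟨_, rfl⟩
  obtain ⟨i', hi'⟩ : ∃ i', i' = ct σ Y * c + ct σ X * f + i := ⟨_, rfl⟩
  rw [← hf', ← hh', ← hi'] at hU
  have hU' := hU
  simp only [GUn, gram, ct_blk, blk_mul, blk_inj] at hU'
  simp only [Matrix.mul_zero, Matrix.zero_mul, add_zero, zero_add, Matrix.mul_one, ct_zero] at hU'
  obtain ⟨-, e12, e13, -, e22, -, -, -, -⟩ := hU'
  have hzero : h' = 0 := by
    calc h' = ct σ ai * (ct σ a * h') := by rw [← Matrix.mul_assoc, hca, Matrix.one_mul]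
      _ = 0 := by rw [e12, Matrix.mul_zero]
  subst hzero
  refine ⟨X, Y, c, f', i', hN, hU, ?_, e13, ?_⟩
  · calc blk a b c d e f g h i = (N * Ni) * blk a b c d e f g h i := by
          rw [hNidef, hN.mul_inv, Matrix.one_mul]
      _ = N * (Ni * blk a b c d e f g h i) := Matrix.mul_assoc _ _ _
      _ = _ := by
          rw [hNi, blk_mul, h21, h31, h22]
          simp [hNdef, hf', ← hi', ← hh']
  · simpa using e22

end CfsgLib.SUComm
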