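import Cfsg.Agent.Lib.Classical.SUComm.Std
import Cfsg.Agent.Lib.Classical.HermSplit

/-!
# The field with `q²` elements and the form `fh`
-/

set_option autoImplicit false
set_option linter.unusedSectionVars false

namespace CfsgLib.SUComm

open Matrix CfsgLib.Classical

/-- The Hermitian form attached to `σ`. -/
def fh {F : Type*} [Field F] (σ : F →+* F) {n : ℕ} (x y : Fin n → F) : F := ∑ i, x i * σ (y i)

variable {F : Type*} [Field F] {σ : F →+* F} {n : ℕ} (x y z : Fin n → F) (c : F)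

theorem fh_add_left : fh σ (x + y) z = fh σ x z + fh σ y z := by simp [fh, add_mul, Finset.sum_add_distrib]
theorem fh_add_right : fh σ x (y + z) = fh σ x y + fh σ x z := by simp [fh, mul_add, Finset.sum_add_distrib]
theorem fh_sub_left : fh σ (x - y) z = fh σ x z - fh σ y z := by simp [fh, sub_mul, Finset.sum_sub_distrib]
theorem fh_sub_right : fh σ x (y - z) = fh σ x y - fh σ x z := by simp [fh, mul_sub, Finset.sum_sub_distrib]
theorem fh_smul_left : fh σ (c • x) y = c * fh σ x y := by simp [fh, Finset.mul_sum, mul_assoc]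
theorem fh_smul_right : fh σ x (c • y) = σ c * fh σ x y := by simp [fh, Finset.mul_sum, mul_left_comm]
theorem fh_sum_left {ι : Type*} (s : Finset ι) (f : ι → Fin n → F) :
    fh σ (∑ i ∈ s, f i) y = ∑ i ∈ s, fh σ (f i) y := by
  simp only [fh, Finset.sum_apply, Finset.sum_mul]; exact Finset.sum_comm
@[simp] theorem fh_zero_left : fh σ 0 y = 0 := by simp [fh]
@[simp] theorem fh_zero_right : fh σ x 0 = 0 := by simp [fh]

theorem fh_conj (hσ : ∀ a, σ (σ a) = a) : σ (fh σ x y) = fh σ y x := by simp [fh, hσ, mul_comm]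

theorem fh_single (i : Fin n) : fh σ x (Pi.single i 1) = x i := by
  rw [fh, Finset.sum_eq_single i] <;> simp +contextual

theorem fh_single_single (i j : Fin n) :
    fh σ (Pi.single i (1 : F)) (Pi.single j 1) = if i = j then 1 else 0 := by
  rw [fh_single, Pi.single_apply]; simp [eq_comm]

theorem eq_zero_of_fh (h : ∀ u, fh σ x u = 0) : x = 0 := funext fun i => by rw [← fh_single (σ := σ) x i, h]; rfl

variable {x y z}

theorem fh_eq_hermForm {q : ℕ} (hσq : ∀ a, σ a = a ^ q) (x y : Fin n → F) : fh σ x y = Cfsg.hermForm n F q x y := by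
  simp [fh, Cfsg.hermForm, hσq]

variable [Fintype F] {q : ℕ}

/-- A primitive element, with the orders that matter. -/
theorem exists_gen (hF : Fintype.card F = q ^ 2) (hσq : ∀ a, σ a = a ^ q) :
    ∃ x : F, x ≠ 0 ∧ x * σ x ≠ 0 ∧ (∀ k, 0 < k → k < q ^ 2 - 1 → x ^ k ≠ 1) := by
  classical
  obtain ⟨t, ht⟩ := IsCyclic.exists_generator (α := Fˣ)
  have hord : orderOf t = q ^ 2 - 1 := by
    rw [orderOf_eq_card_of_forall_mem_zpowers ht, Nat.card_eq_fintype_card, Fintype.card_units, hF]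
  refine ⟨(t : F), t.ne_zero, mul_ne_zero t.ne_zero ?_, fun k h0 h1 e => ?_⟩
  · rw [hσq]; exact pow_ne_zero _ t.ne_zero
  · have : t ^ k = 1 := Units.ext (by simpa using e)
    have := Nat.le_of_dvd h0 (orderOf_dvd_of_pow_eq_one this)
    omega

theorem exists_norm (hF : Fintype.card F = q ^ 2) (hσq : ∀ a, σ a = a ^ q) {μ : F} (hμ : σ μ = μ) :
    ∃ l : F, l * σ l = μ := by
  obtain ⟨l, hl⟩ := exists_norm_eq hF (by rw [← hσq, hμ])
  exact ⟨l, by rw [hσq, ← hl]; ring⟩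

/-- Three distinct elements of each norm. -/
theorem exists_three (hF : Fintype.card F = q ^ 2) (hσq : ∀ a, σ a = a ^ q) {μ : F} (hμ : σ μ = μ) (h0 : μ ≠ 0) :
    ∃ a b c : F, a * σ a = μ ∧ b * σ b = μ ∧ c * σ c = μ ∧ a ≠ b ∧ a ≠ c ∧ b ≠ c := by
  obtain ⟨l, hl⟩ := exists_norm hF hσq hμ
  have hl0 : l ≠ 0 := fun e => h0 (by rw [← hl, e, zero_mul])
  have hq := two_le_q hF
  obtain ⟨x, hx0, -, hx⟩ := exists_gen hF hσq
  have hzn : x ^ (q - 1) * σ (x ^ (q - 1)) = 1 := by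
    rw [hσq, ← pow_mul, ← pow_add, show q - 1 + (q - 1) * q = q ^ 2 - 1 by
      obtain ⟨k, rfl⟩ : ∃ k, q = k + 1 := ⟨q - 1, by omega⟩
      simp only [Nat.add_sub_cancel]
      rw [show (k + 1) ^ 2 - 1 = k + k * (k + 1) from by rw [Nat.sub_eq_iff_eq_add (Nat.one_le_pow _ _ (by omega))]; ring]]
    rw [← hF]; exact FiniteField.pow_card_sub_one_eq_one x hx0
  have h1 : x ^ (q - 1) ≠ 1 := hx _ (by omega) (by
    have : q * 2 ≤ q ^ 2 := by rw [sq]; exact Nat.mul_le_mul_left q hq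
    omega)
  have h2 : (x ^ (q - 1)) ^ 2 ≠ 1 := by
    rw [← pow_mul]
    refine hx _ (by omega) ?_
    have : q * 2 ≤ q ^ 2 := by rw [sq]; exact Nat.mul_le_mul_left q hq
    omega
  have hl' : ∀ z : F, z * σ z = 1 → (l * z) * σ (l * z) = μ := fun z hz => by
    rw [map_mul, mul_mul_mul_comm, hl, hz, mul_one]
  refine ⟨l, l * x ^ (q - 1), l * (x ^ (q - 1)) ^ 2, hl, hl' _ hzn, hl' _ ?_, ?_, ?_, ?_⟩
  · rw [map_pow, ← mul_pow, hzn, one_pow]
  · intro e; exact h1 (mul_left_cancel₀ hl0 (by rw [mul_one]; exact e.symm))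
  · intro e; exact h2 (mul_left_cancel₀ hl0 (by rw [mul_one]; exact e.symm))
  · intro e
    have e' := mul_left_cancel₀ hl0 e
    rw [sq] at e'
    exact h1 ((mul_eq_left₀ (pow_ne_zero _ hx0)).1 e'.symm)

/-- A fixed element other than `0` and a given one. -/
theorem exists_fixed (hF : Fintype.card F = q ^ 2) (hσq : ∀ a, σ a = a ^ q) (hq : 3 ≤ q) {μ : F} (hμ : σ μ = μ)
    (h0 : μ ≠ 0) : ∃ t, σ t = t ∧ t ≠ 0 ∧ t ≠ μ := by
  have hσ : ∀ a, σ (σ a) = a := fun a => by rw [hσq, hσq, pow_q_q hF]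
  obtain ⟨x, hx0, hN, hx⟩ := exists_gen hF hσq
  refine ⟨μ * (x * σ x), by rw [map_mul, map_mul, hσ, hμ, mul_comm (σ x)], mul_ne_zero h0 hN, fun e => ?_⟩
  have h1 : x * σ x = 1 := (mul_eq_left₀ h0).1 e
  rw [hσq, ← pow_succ'] at h1
  have : q * 3 ≤ q ^ 2 := by rw [sq]; exact Nat.mul_le_mul_left q hq
  exact hx _ (Nat.succ_pos _) (by omega) h1

end CfsgLib.SUComm
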