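import Cfsg.Agent.Lib.Classical.SUComm.Step

/-!
# A frame in which the corner block has determinant one and a corner entry one
-/

set_option autoImplicit false
set_option linter.unusedSectionVars false

namespace CfsgLib.SUComm

open Matrix CfsgLib.Classical

variable {F : Type*} [Field F]

/-- Three families forming a hyperbolic-orthonormal frame. -/
structure Fr (σ : F →+* F) {n : ℕ} {α β : Type*} [DecidableEq α] [DecidableEq β]
    (V : Matrix (Fin n) α F) (Z : Matrix (Fin n) β F) (W : Matrix (Fin n) α F) : Prop where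
  vv : ct σ V * V = 0
  wv : ct σ W * V = 1
  ww : ct σ W * W = 0
  zv : ct σ Z * V = 0
  zw : ct σ Z * W = 0
  zz : ct σ Z * Z = 1

variable {σ : F →+* F} {n : ℕ}

/-- The frame as one matrix. -/
def frameMat {α β : Type*} (V : Matrix (Fin n) α F) (Z : Matrix (Fin n) β F) (W : Matrix (Fin n) α F) :
    Matrix (Fin n) (α ⊕ (β ⊕ α)) F :=
  fromCols V (fromCols Z W)

theorem frame_mul {α β : Type*} (V : Matrix (Fin n) α F) (Z : Matrix (Fin n) β F) (W : Matrix (Fin n) α F)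
    (X : Matrix (Fin n) (Fin n) F) :
    ct σ (frameMat V Z W) * X * frameMat V Z W =
      blk (ct σ V * X * V) (ct σ V * X * Z) (ct σ V * X * W) (ct σ Z * X * V) (ct σ Z * X * Z) (ct σ Z * X * W)
        (ct σ W * X * V) (ct σ W * X * Z) (ct σ W * X * W) := by
  ext (r | r | r) (s | s | s) <;> simp [frameMat, blk, ct, Matrix.mul_apply]

theorem Fr.gram_eq (hσ : ∀ x, σ (σ x) = x) {α β : Type*} [Fintype α] [DecidableEq α] [Fintype β] [DecidableEq β]
    {V : Matrix (Fin n) α F} {Z : Matrix (Fin n) β F} {W : Matrix (Fin n) α F} (h : Fr σ V Z W) :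
    ct σ (frameMat V Z W) * frameMat V Z W = gram α β := by
  have h1 := frame_mul (σ := σ) V Z W 1
  simp only [Matrix.mul_one] at h1
  have e1 : ct σ V * W = 1 := by rw [← ct_one σ, ← h.wv, ct_mul, ct_ct σ hσ]
  have e2 : ct σ V * Z = 0 := by rw [← ct_zero σ, ← h.zv, ct_mul, ct_ct σ hσ]
  have e3 : ct σ W * Z = 0 := by rw [← ct_zero σ, ← h.zw, ct_mul, ct_ct σ hσ]
  rw [h1, h.vv, h.wv, h.ww, h.zv, h.zw, h.zz, e1, e2, e3, gram]

/-- The matrix of `g` in a frame. -/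
theorem Fr.matrix (hσ : ∀ x, σ (σ x) = x) {α β : Type*} [Fintype α] [DecidableEq α] [Fintype β] [DecidableEq β]
    {V : Matrix (Fin n) α F} {Z : Matrix (Fin n) β F} {W : Matrix (Fin n) α F} (h : Fr σ V Z W)
    (hcard : Fintype.card (α ⊕ (β ⊕ α)) = n) {g : Matrix (Fin n) (Fin n) F} (hg : UStd σ g) :
    GUn σ (blk (ct σ W * g * V) (ct σ W * g * Z) (ct σ W * g * W) (ct σ Z * g * V) (ct σ Z * g * Z) (ct σ Z * g * W)
        (ct σ V * g * V) (ct σ V * g * Z) (ct σ V * g * W)) ∧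
      (blk (ct σ W * g * V) (ct σ W * g * Z) (ct σ W * g * W) (ct σ Z * g * V) (ct σ Z * g * Z) (ct σ Z * g * W)
        (ct σ V * g * V) (ct σ V * g * Z) (ct σ V * g * W)).det = g.det ∧
      blk (ct σ W * g * V) (ct σ W * g * Z) (ct σ W * g * W) (ct σ Z * g * V) (ct σ Z * g * Z) (ct σ Z * g * W)
        (ct σ V * g * V) (ct σ V * g * Z) (ct σ V * g * W) =
        gram (F := F) α β * ct σ (frameMat V Z W) * g * frameMat V Z W := by
  obtain ⟨P, hPdef⟩ : ∃ P, P = frameMat V Z W := ⟨_, rfl⟩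
  have hP : ct σ P * P = gram α β := hPdef ▸ h.gram_eq hσ
  obtain ⟨M, hM⟩ : ∃ M, M = gram (F := F) α β * ct σ P * g * P := ⟨_, rfl⟩
  have heq : blk (ct σ W * g * V) (ct σ W * g * Z) (ct σ W * g * W) (ct σ Z * g * V) (ct σ Z * g * Z)
      (ct σ Z * g * W) (ct σ V * g * V) (ct σ V * g * Z) (ct σ V * g * W) = M := by
    rw [hM, Matrix.mul_assoc (gram α β), Matrix.mul_assoc (gram α β), hPdef, frame_mul, gram, blk_mul]
    simp
  rw [heq, ← hPdef, ← hM]
  have e : α ⊕ (β ⊕ α) ≃ Fin n := Fintype.equivFinOfCardEq hcard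
  obtain ⟨Q, hQ⟩ : ∃ Q : Matrix (α ⊕ (β ⊕ α)) (Fin n) F, Q = gram (F := F) α β * ct σ P := ⟨_, rfl⟩
  have hQP : Q * P = 1 := by rw [hQ, Matrix.mul_assoc, hP, gram_mul_gram]
  have hPQ : P * Q = 1 := (Matrix.mul_eq_one_comm_of_equiv e).1 hQP
  refine ⟨?_, ?_, rfl⟩
  · have hQct : ct σ Q = P * gram (F := F) α β := by rw [hQ, ct_mul, ct_ct σ hσ, ct_gram]
    rw [GUn, hM, ← hQ, ct_mul, ct_mul, hQct]
    have h : ct σ P * (ct σ g * (P * gram (F := F) α β)) * gram (F := F) α β * (Q * g * P)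
        = ct σ P * (ct σ g * (P * (gram (F := F) α β * gram (F := F) α β) * Q) * g) * P := by
      simp only [Matrix.mul_assoc]
    rw [h, gram_mul_gram, Matrix.mul_one, hPQ, Matrix.mul_one, show ct σ g * g = 1 from hg, Matrix.mul_one, hP]
  · have h2 : (Q.submatrix e.symm id) * (P.submatrix id e.symm) = 1 := by
      rw [← Matrix.submatrix_mul _ _ _ _ _ Function.bijective_id, hQP, Matrix.submatrix_one_equiv]
    have h3 : M.submatrix e.symm e.symm = Q.submatrix e.symm id * g * P.submatrix id e.symm := by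
      rw [hM, ← hQ]
      ext i j
      simp [Matrix.mul_apply]
    rw [← det_submatrix_equiv_self e.symm M, h3, det_mul, det_mul, mul_right_comm, ← det_mul, h2, det_one, one_mul]

variable [Fintype F] {q : ℕ}

theorem fh_ct {a b : Type*} (g : Matrix (Fin n) (Fin n) F) (X : Matrix (Fin n) a F) (Y : Matrix (Fin n) b F)
    (i : b) (j : a) : (ct σ Y * g * X) i j = fh σ (g *ᵥ fun k => X k j) fun k => Y k i := by
  rw [Matrix.mul_assoc]
  simp [Matrix.mul_apply, ct, fh, Matrix.mulVec, dotProduct, mul_comm]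

/-- The frame. -/
theorem exists_frame (hF : Fintype.card F = q ^ 2) (hσq : ∀ a, σ a = a ^ q) (hq : 3 ≤ q) :
    ∀ (n : ℕ) (g : Matrix (Fin n) (Fin n) F), 2 ≤ n → UStd σ g → g.det = 1 → (¬ ∃ c : F, g = c • 1) →
      ∃ (m k : ℕ) (V : Matrix (Fin n) (Fin (m + 1)) F) (Z : Matrix (Fin n) (Fin k) F)
        (W : Matrix (Fin n) (Fin (m + 1)) F), Fr σ V Z W ∧ k ≤ 1 ∧ 2 * (m + 1) + k = n ∧
        (ct σ W * g * V).det = 1 ∧ (ct σ W * g * V) 0 0 = 1 := by
  intro n
  induction n using Nat.strong_induction_on with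
  | _ n ih =>
  intro g hn hg hdet hns
  classical
  have hσ : ∀ a, σ (σ a) = a := fun a => by rw [hσq, hσq, pow_q_q hF]
  have hgf : ∀ x y, fh σ (g *ᵥ x) (g *ᵥ y) = fh σ x y := fun x y => by
    have e : ∀ x y : Fin n → F, fh σ x y = (fun i => σ (y i)) ⬝ᵥ x := fun x y => by
      simp [fh, dotProduct, mul_comm]
    rw [e, e, show (fun i => σ ((g *ᵥ y) i)) = (g.map σ) *ᵥ (fun i => σ (y i)) from funext fun i => by
      simp [Matrix.mulVec, dotProduct]]
    rw [← Matrix.vecMul_transpose, ← Matrix.dotProduct_mulVec, Matrix.mulVec_mulVec,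
      show (g.map σ)ᵀ * g = 1 from hg, Matrix.one_mulVec]
  have hns' : ¬ ∃ c : F, ∀ x, Matrix.mulVecLin g x = c • x := fun ⟨c, hc⟩ => hns ⟨c, by
    ext i j
    have := congrFun (hc (Pi.single j 1)) i
    simpa [Matrix.one_apply, Pi.single_apply] using this⟩
  obtain ⟨v, w, z, hv, hw, hvw, hgvw, hz, hzz, hC⟩ := exists_step (Matrix.mulVecLin g) hF hσq hq hgf hns' hn (by
    intro h2 v hv
    subst h2
    have hadj : g + ct σ g = g.trace • (1 : Matrix (Fin 2) (Fin 2) F) := by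
      have h1 : ct σ g = g.adjugate := by
        calc ct σ g = ct σ g * (g * g.adjugate) := by rw [Matrix.mul_adjugate, hdet, one_smul, Matrix.mul_one]
          _ = _ := by rw [← Matrix.mul_assoc, show ct σ g * g = 1 from hg, Matrix.one_mul]
      rw [h1, Matrix.adjugate_fin_two]
      ext i j
      fin_cases i <;> fin_cases j <;> simp [Matrix.trace_fin_two]
      ring
    have e2 : σ (fh σ (g *ᵥ v) v) = fh σ (ct σ g *ᵥ v) v := by
      rw [fh_conj _ _ hσ, ← hgf (ct σ g *ᵥ v) v, Matrix.mulVec_mulVec, hg.right, Matrix.one_mulVec]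
    simp only [Matrix.mulVecLin_apply]
    rw [e2, ← fh_add_left, ← Matrix.add_mulVec, hadj, Matrix.smul_mulVec, Matrix.one_mulVec, fh_smul_left, hv,
      mul_zero])
  simp only [Matrix.mulVecLin_apply] at hgvw hC
  let V₁ : Matrix (Fin n) (Fin 1) F := Matrix.of fun i _ => v i
  let W₁ : Matrix (Fin n) (Fin 1) F := Matrix.of fun i _ => w i
  let Z₁ : Matrix (Fin n) (Fin (n - 2)) F := Matrix.of fun i j => z j i
  have hone : ∀ {a b : Type} (X : Matrix (Fin n) a F) (Y : Matrix (Fin n) b F) (i : b) (j : a),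
      (ct σ Y * X) i j = fh σ (fun k => X k j) fun k => Y k i := fun X Y i j => by
    simp [Matrix.mul_apply, ct, fh, mul_comm]
  have hfr : Fr σ V₁ Z₁ W₁ := by
    refine ⟨?_, ?_, ?_, ?_, ?_, ?_⟩ <;> ext i j <;> rw [hone]
    · simpa [V₁] using hv
    · fin_cases i; fin_cases j; simpa [V₁, W₁] using hvw
    · simpa [W₁] using hw
    · simp only [V₁, Z₁, Matrix.of_apply, Matrix.zero_apply]
      rw [← fh_conj _ _ hσ, (hz i).1, map_zero]
    · simp only [W₁, Z₁, Matrix.of_apply, Matrix.zero_apply]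
      rw [← fh_conj _ _ hσ, (hz i).2, map_zero]
    · simp only [Z₁, Matrix.of_apply, Matrix.one_apply]
      rw [hzz]; simp [eq_comm]
  have hcard₁ : Fintype.card (Fin 1 ⊕ (Fin (n - 2) ⊕ Fin 1)) = n := by simp; omega
  have ha : ct σ W₁ * g * V₁ = 1 := by
    ext i j
    rw [fh_ct]
    fin_cases i; fin_cases j
    simpa [V₁, W₁] using hgvw
  rcases Nat.lt_or_ge n 4 with hn4 | hn4
  · exact ⟨0, n - 2, V₁, Z₁, W₁, hfr, by omega, by omega, by simp [ha], by simp [ha]⟩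
  obtain ⟨hM, hMdet, -⟩ := hfr.matrix hσ hcard₁ hg
  obtain ⟨X, Y, c', f', i', hN, hU, hMNU, hi', hCU⟩ := exists_factor σ hσ hM (ai := 1) (by rw [ha, Matrix.one_mul])
  rw [Matrix.mul_one] at hU hMNU hCU
  obtain ⟨C, hCdef⟩ : ∃ C, C = ct σ Z₁ * g * Z₁ - ct σ Z₁ * g * V₁ * (ct σ W₁ * g * Z₁) := ⟨_, rfl⟩
  rw [← hCdef] at hU hMNU hCU
  have hCdet : C.det = 1 := by
    have h := hMdet
    rw [hMNU, det_mul, det_blk_lower, det_blk_upper, hdet] at h
    have hi : i'.det = 1 := by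
      rw [ha, ct_one, Matrix.one_mul] at hi'
      rw [hi', det_one]
    rw [hi, ha] at h
    simpa using h
  have hCns : ¬ ∃ c : F, C = c • 1 := by
    rintro ⟨ν, hν⟩
    have hν0 : ν ≠ 0 := fun e => by
      haveI : Nonempty (Fin (n - 2)) := ⟨⟨0, by omega⟩⟩
      rw [hν, e, zero_smul, Matrix.det_zero] at hCdet
      exact zero_ne_one hCdet
    obtain ⟨i, j, hij⟩ := hC hn4 ν hν0
    apply hij
    have := congrFun (congrFun (hCdef.symm.trans hν) i) j
    rw [Matrix.sub_apply, Matrix.mul_apply (M := ct σ Z₁ * g * V₁), Fin.sum_univ_one, fh_ct, fh_ct, fh_ct] at this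
    simp only [V₁, W₁, Z₁, Matrix.of_apply, Matrix.smul_apply, Matrix.one_apply, smul_eq_mul, mul_ite, mul_one,
      mul_zero] at this
    rw [← this]; ring
  obtain ⟨m, k, V₂, Z₂, W₂, hfr₂, hk, hmk, hdet₂, -⟩ := ih (n - 2) (by omega) C (by omega) hCU hCdet hCns
  obtain ⟨e, he⟩ : ∃ e : Fin (m + 1 + 1) ≃ Fin 1 ⊕ Fin (m + 1), e 0 = Sum.inl 0 :=
    ⟨(finCongr (by omega)).trans finSumFinEquiv.symm, by
      rw [Equiv.trans_apply, Equiv.symm_apply_eq]; rfl⟩
  obtain ⟨V, hV⟩ : ∃ V, V = (fromCols V₁ (Z₁ * V₂)).submatrix id e := ⟨_, rfl⟩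
  obtain ⟨W, hW⟩ : ∃ W, W = (fromCols W₁ (Z₁ * W₂)).submatrix id e := ⟨_, rfl⟩
  have e2 : ct σ V₁ * Z₁ = 0 := by rw [← ct_zero σ, ← hfr.zv, ct_mul, ct_ct σ hσ]
  have e3 : ct σ W₁ * Z₁ = 0 := by rw [← ct_zero σ, ← hfr.zw, ct_mul, ct_ct σ hσ]
  have cV : ct σ (fromCols V₁ (Z₁ * V₂)) = fromRows (ct σ V₁) (ct σ V₂ * ct σ Z₁) := by
    rw [← ct_mul]; ext (i | i) j <;> simp [ct_apply]
  have cW : ct σ (fromCols W₁ (Z₁ * W₂)) = fromRows (ct σ W₁) (ct σ W₂ * ct σ Z₁) := by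
    rw [← ct_mul]; ext (i | i) j <;> simp [ct_apply]
  have za : ∀ {a b : Type} (R : Matrix a (Fin (n - 2)) F) (T : Matrix (Fin (n - 2)) b F),
      R * ct σ Z₁ * (Z₁ * T) = R * T := fun R T => by
    rw [Matrix.mul_assoc, ← Matrix.mul_assoc (ct σ Z₁), hfr.zz, Matrix.one_mul]
  have hfr' : Fr σ V (Z₁ * Z₂) W := by
    refine ⟨?_, ?_, ?_, ?_, ?_, ?_⟩
    · rw [hV, ct_submatrix, ← Matrix.submatrix_mul _ _ _ _ _ Function.bijective_id, cV,
        fromRows_mul_fromCols, hfr.vv, za, hfr₂.vv, ← Matrix.mul_assoc (ct σ V₁), e2, Matrix.zero_mul,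
        Matrix.mul_assoc (ct σ V₂), hfr.zv, Matrix.mul_zero, fromBlocks_zero, submatrix_zero]
      rfl
    · rw [hV, hW, ct_submatrix, ← Matrix.submatrix_mul _ _ _ _ _ Function.bijective_id, cW,
        fromRows_mul_fromCols, hfr.wv, za, hfr₂.wv, ← Matrix.mul_assoc (ct σ W₁), e3, Matrix.zero_mul,
        Matrix.mul_assoc (ct σ W₂), hfr.zv, Matrix.mul_zero, fromBlocks_one, submatrix_one_equiv]
    · rw [hW, ct_submatrix, ← Matrix.submatrix_mul _ _ _ _ _ Function.bijective_id, cW,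
        fromRows_mul_fromCols, hfr.ww, za, hfr₂.ww, ← Matrix.mul_assoc (ct σ W₁), e3, Matrix.zero_mul,
        Matrix.mul_assoc (ct σ W₂), hfr.zw, Matrix.mul_zero, fromBlocks_zero, submatrix_zero]
      rfl
    · rw [hV, ct_mul, ← Matrix.submatrix_id_id (ct σ Z₂ * ct σ Z₁),
        ← Matrix.submatrix_mul _ _ _ _ _ Function.bijective_id, mul_fromCols, za, hfr₂.zv, Matrix.mul_assoc,
        hfr.zv, Matrix.mul_zero, fromCols_zero, submatrix_zero]
      rfl
    · rw [hW, ct_mul, ← Matrix.submatrix_id_id (ct σ Z₂ * ct σ Z₁),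
        ← Matrix.submatrix_mul _ _ _ _ _ Function.bijective_id, mul_fromCols, za, hfr₂.zw, Matrix.mul_assoc,
        hfr.zw, Matrix.mul_zero, fromCols_zero, submatrix_zero]
      rfl
    · rw [ct_mul, za, hfr₂.zz]
  refine ⟨m + 1, k, V, Z₁ * Z₂, W, hfr', hk, by omega, ?_⟩
  have hblock : ct σ W * g * V = (fromBlocks 1 (ct σ W₁ * g * Z₁ * V₂) (ct σ W₂ * (ct σ Z₁ * g * V₁))
      (ct σ W₂ * (ct σ Z₁ * g * Z₁) * V₂)).submatrix e e := by
    rw [hV, hW, ct_submatrix, cW,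
      show (fromRows (ct σ W₁) (ct σ W₂ * ct σ Z₁)).submatrix e id * g =
        (fromRows (ct σ W₁) (ct σ W₂ * ct σ Z₁) * g).submatrix e id from by
        ext i j; cases h : e i <;> simp [Matrix.mul_apply, h],
      ← Matrix.submatrix_mul _ _ _ _ _ Function.bijective_id, fromRows_mul, fromRows_mul_fromCols, ha]
    simp only [Matrix.mul_assoc]
  rw [hblock]
  refine ⟨?_, ?_⟩
  · rw [det_submatrix_equiv_self, det_fromBlocks_one₁₁, ← hdet₂, hCdef]
    congr 1
    simp only [Matrix.mul_sub, Matrix.sub_mul, Matrix.mul_assoc]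
  · rw [submatrix_apply, he, fromBlocks_apply₁₁, Matrix.one_apply_eq]

end CfsgLib.SUComm
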