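import Cfsg.Agent.Lib.Classical.SUComm.Field

/-!
# Scalars of determinant one are commutators
-/

set_option autoImplicit false
set_option linter.unusedSectionVars false

namespace CfsgLib.SUComm

open Matrix

variable {F : Type*} [Field F] {σ : F →+* F}

/-- The weighted cycle: the last basis vector picks up the factor `e`. -/
def cyc (n : ℕ) (e : F) : Matrix (Fin n) (Fin n) F :=
  Matrix.of fun i j => if (i : ℕ) = j + 1 then 1 else if (i : ℕ) + n = j + 1 then e else 0

theorem cyc_pow (n : ℕ) (e : F) (k : ℕ) (hk : k ≤ n) (i j : Fin n) :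
    (cyc n e ^ k) i j = if (i : ℕ) = j + k then 1 else if (i : ℕ) + n = j + k then e else 0 := by
  induction k generalizing i with
  | zero =>
    rw [pow_zero, Matrix.one_apply]
    simp only [Fin.ext_iff, Nat.add_zero]
    have : ¬ (i : ℕ) + n = j := by omega
    simp [this]
  | succ k ih =>
    rw [pow_succ', Matrix.mul_apply]
    simp only [ih (by omega)]
    have hl : ∀ l : Fin n, (cyc n e i l) ≠ 0 → (l : ℕ) = if (i : ℕ) = 0 then n - 1 else i - 1 := fun l hl => by
      simp only [cyc, Matrix.of_apply] at hl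
      split_ifs at hl ⊢ with h1 h2 h3 <;> first | omega | exact absurd rfl hl
    have hn : 0 < n := j.pos
    rw [Finset.sum_eq_single ⟨if (i : ℕ) = 0 then n - 1 else i - 1, by split_ifs <;> omega⟩ (fun l _ hne => by
      by_contra h
      exact hne (Fin.ext (hl l (left_ne_zero_of_mul h)))) (by simp)]
    simp only [cyc, Matrix.of_apply]
    split_ifs <;> first | omega | simp

variable (n : ℕ)

theorem cyc_mul_diag {ν μ e : F} (hνμ : ν * μ = 1) (hn : μ ^ n = 1) :
    cyc n e * diagonal (fun i : Fin n => μ ^ (i : ℕ)) = ν • (diagonal (fun i : Fin n => μ ^ (i : ℕ)) * cyc n e) := by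
  ext i j
  simp only [Matrix.mul_diagonal, Matrix.smul_apply, Matrix.diagonal_mul, cyc, Matrix.of_apply, smul_eq_mul]
  split_ifs with h1 h2
  · rw [h1, pow_succ]; linear_combination -(μ ^ (j : ℕ)) * hνμ
  · have e1 : μ ^ (j : ℕ) = μ ^ (i : ℕ) * ν := by
      calc μ ^ (j : ℕ) = μ ^ (j : ℕ) * μ * ν := by rw [mul_assoc, mul_comm μ, hνμ, mul_one]
        _ = μ ^ (i : ℕ) * ν := by rw [← pow_succ, ← h2, pow_add, hn, mul_one]
    rw [e1]; ring
  · ring

theorem ustd_cyc (hn : 0 < n) {e : F} (he : e * σ e = 1) : UStd σ (cyc n e) := by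
  ext i j
  rw [Matrix.mul_apply]
  rw [Finset.sum_eq_single ⟨if (i : ℕ) + 1 = n then 0 else i + 1, by split_ifs <;> omega⟩ (fun l _ hne => by
    simp only [ct_apply, cyc, Matrix.of_apply]
    split_ifs with h1 h2 <;> simp
    all_goals exact absurd (Fin.ext (by simp only; split_ifs <;> omega)) hne) (by simp)]
  simp only [ct_apply, cyc, Matrix.of_apply, Matrix.one_apply, Fin.ext_iff]
  split_ifs <;> first | omega | contradiction | simp | (rw [mul_comm]; exact he)

theorem det_cyc (hn : 0 < n) (e : F) : (cyc n e).det = (-1) ^ (n - 1) * e := by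
  obtain ⟨m, rfl⟩ : ∃ m, n = m + 1 := ⟨n - 1, by omega⟩
  have h : cyc (m + 1) e = (Equiv.Perm.permMatrix F (finRotate (m + 1))⁻¹) *
      diagonal (fun j : Fin (m + 1) => if j = Fin.last m then e else 1) := by
    ext i j
    rw [Matrix.mul_diagonal]
    have hinv : (finRotate (m + 1))⁻¹ i = j ↔ i = finRotate (m + 1) j := Equiv.Perm.inv_eq_iff_eq
    simp only [cyc, Matrix.of_apply, Equiv.Perm.permMatrix, PEquiv.toMatrix_apply, Equiv.toPEquiv_apply,
      Option.mem_some_iff, hinv, Fin.ext_iff, coe_finRotate, Fin.val_last]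
    split_ifs <;> first | omega | simp
  rw [h, det_mul, det_permutation, det_diagonal, Equiv.Perm.sign_inv, sign_finRotate, Nat.add_sub_cancel,
    Finset.prod_ite_eq']
  simp

variable [Fintype F] {q : ℕ} {n}

/-- Two fixed elements with a given sum of squares. -/
theorem exists_sq_add_sq (hF : Fintype.card F = q ^ 2) (hσq : ∀ a, σ a = a ^ q) (h2 : (2 : F) ≠ 0) {μ : F}
    (hμ : σ μ = μ) : ∃ i a b : F, i * i = -1 ∧ σ a = a ∧ σ b = b ∧ a * a + b * b = μ := by
  obtain ⟨i, hi⟩ : IsSquare (-1 : F) := by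
    rw [FiniteField.isSquare_neg_one_iff, hF, Nat.pow_mod]
    have : q % 4 < 4 := Nat.mod_lt _ (by norm_num)
    interval_cases q % 4 <;> norm_num
  have hσ : ∀ a, σ (σ a) = a := fun a => by rw [hσq, hσq, CfsgLib.Classical.pow_q_q hF]
  have hi' : i * i = -1 := hi.symm
  have hi0 : i ≠ 0 := fun e => by rw [e, mul_zero] at hi'; simp at hi'
  rcases mul_self_eq_mul_self_iff.1 (show σ i * σ i = i * i by rw [← map_mul, hi', map_neg, map_one]) with h | h
  · refine ⟨i, (μ + 1) / 2, (μ - 1) / (2 * i), hi', by simp [hμ, map_ofNat], by simp [hμ, h, map_ofNat], ?_⟩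
    field_simp
    linear_combination (μ + 1) ^ 2 * hi' - 4 * μ * hi'
  · obtain ⟨l, hl⟩ := exists_norm hF hσq hμ
    refine ⟨i, (l + σ l) / 2, (l - σ l) / (2 * i), hi', by simp [hσ, map_ofNat, add_comm], by
      simp [hσ, h, map_ofNat]; field_simp; ring, ?_⟩
    field_simp
    linear_combination ((l + σ l) ^ 2 - 4 * μ) * hi' - 4 * hl

theorem exists_det_neg (hF : Fintype.card F = q ^ 2) (hσq : ∀ a, σ a = a ^ q) {h : ℕ} (h0 : 0 < h) (h2 : (2 : F) ≠ 0)
    {d : F} (hd : d * σ d = 1) (hdh : d ^ h = -1) :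
    ∃ c, UStd σ c ∧ c * cyc (h + h) (-1 : F) = cyc (h + h) (-1) * c ∧ c.det = -1 := by
  have hσ : ∀ a, σ (σ a) = a := fun a => by rw [hσq, hσq, CfsgLib.Classical.pow_q_q hF]
  obtain ⟨φ, hφ0, hφ⟩ : ∃ φ : F, φ ≠ 0 ∧ φ * (σ φ)⁻¹ = d := by
    by_cases h1 : d = -1
    · obtain ⟨x, hx0, -, hx⟩ := exists_gen hF hσq
      have : σ x ≠ x := fun e => by
        rw [hσq] at e
        have hq := CfsgLib.Classical.two_le_q hF
        have : q * 2 ≤ q ^ 2 := by rw [sq]; exact Nat.mul_le_mul_left q hq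
        refine hx (q - 1) (by omega) (by omega) (mul_left_cancel₀ hx0 ?_)
        rw [← pow_succ', show q - 1 + 1 = q by omega, e, mul_one]
      refine ⟨x - σ x, sub_ne_zero.2 this.symm, ?_⟩
      rw [map_sub, hσ, h1, ← neg_sub x (σ x), inv_neg, mul_neg, mul_inv_cancel₀ (sub_ne_zero.2 this.symm)]
    · have h1' : 1 + d ≠ 0 := fun e => h1 (by linear_combination e)
      refine ⟨_, h1', ?_⟩
      rw [mul_inv_eq_iff_eq_mul₀ ((map_ne_zero σ).2 h1'), map_add, map_one]
      linear_combination -hd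
  have hφσ : σ φ ≠ 0 := (map_ne_zero σ).2 hφ0
  obtain ⟨i, a, b, hi, ha, hb, hab⟩ := exists_sq_add_sq hF hσq h2 (μ := (φ * σ φ)⁻¹) (by
    rw [map_inv₀, map_mul, hσ, mul_comm (σ φ)])
  have hab' : φ * σ φ * (a * a + b * b) = 1 := by rw [hab, mul_inv_cancel₀ (mul_ne_zero hφ0 hφσ)]
  obtain ⟨A, hA⟩ : ∃ A, A = cyc (h + h) (-1 : F) := ⟨_, rfl⟩
  obtain ⟨J, hJ⟩ : ∃ J, J = A ^ h := ⟨_, rfl⟩
  have hAU : UStd σ A := hA ▸ ustd_cyc _ (by omega) (by simp)
  have hJJ : J * J = -1 := by
    rw [hJ, ← pow_add, hA]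
    ext r s
    rw [cyc_pow _ _ _ le_rfl]
    simp only [Matrix.neg_apply, Matrix.one_apply, Fin.ext_iff]
    split_ifs <;> first | omega | simp
  have hpow : ∀ k, UStd σ (A ^ k) := fun k => by
    induction k with
    | zero => simp [UStd]
    | succ k ih => rw [pow_succ]; exact ih.mul hAU
  have hJU : UStd σ J := hJ ▸ hpow h
  have hJct : ct σ J = -J := by
    calc ct σ J = ct σ J * (J * -J) := by rw [Matrix.mul_neg, hJJ, neg_neg, Matrix.mul_one]
      _ = -J := by rw [← Matrix.mul_assoc, show ct σ J * J = 1 from hJU, Matrix.one_mul]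
  refine ⟨(φ * a) • 1 + (φ * b) • J, ?_, ?_, ?_⟩
  · rw [UStd, ct_add, ct_smul, ct_smul, ct_one, hJct]
    simp only [map_mul, ha, hb, Matrix.add_mul, Matrix.mul_add, Matrix.smul_mul, Matrix.mul_smul, Matrix.one_mul,
      Matrix.mul_one, Matrix.neg_mul, hJJ, neg_neg, smul_neg, smul_smul]
    conv_rhs => rw [← one_smul F (1 : Matrix (Fin (h + h)) (Fin (h + h)) F), ← hab']
    module
  · rw [Matrix.add_mul, Matrix.mul_add, Matrix.smul_mul, Matrix.mul_smul, Matrix.smul_mul, Matrix.mul_smul,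
      Matrix.one_mul, Matrix.mul_one, hJ, ← hA, ← pow_succ, ← pow_succ']
  · have e : ((φ * a) • 1 + (φ * b) • J).submatrix finSumFinEquiv finSumFinEquiv =
        fromBlocks ((φ * a) • (1 : Matrix (Fin h) (Fin h) F)) ((-(φ * b)) • (1 : Matrix (Fin h) (Fin h) F))
          ((φ * b) • (1 : Matrix (Fin h) (Fin h) F)) ((φ * a) • (1 : Matrix (Fin h) (Fin h) F)) := by
      rw [hJ, hA]
      ext (r | r) (s | s) <;>
        simp only [submatrix_apply, Matrix.add_apply, Matrix.smul_apply, cyc_pow _ _ _ (Nat.le_add_right h h),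
          Matrix.one_apply, fromBlocks_apply₁₁, fromBlocks_apply₁₂, fromBlocks_apply₂₁, fromBlocks_apply₂₂,
          finSumFinEquiv_apply_left, finSumFinEquiv_apply_right, Fin.val_castAdd, Fin.val_natAdd, Fin.ext_iff,
          smul_eq_mul] <;>
        split_ifs <;> first | omega | simp
    have e2 : fromBlocks (1 : Matrix (Fin h) (Fin h) F) (0 : Matrix (Fin h) (Fin h) F) ((-i) • (1 : Matrix (Fin h) (Fin h) F))
          (1 : Matrix (Fin h) (Fin h) F) *
        fromBlocks ((φ * a) • (1 : Matrix (Fin h) (Fin h) F)) ((-(φ * b)) • (1 : Matrix (Fin h) (Fin h) F))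
          ((φ * b) • (1 : Matrix (Fin h) (Fin h) F)) ((φ * a) • (1 : Matrix (Fin h) (Fin h) F)) *
        fromBlocks (1 : Matrix (Fin h) (Fin h) F) (0 : Matrix (Fin h) (Fin h) F) (i • (1 : Matrix (Fin h) (Fin h) F))
          (1 : Matrix (Fin h) (Fin h) F) =
        fromBlocks ((φ * (a - i * b)) • (1 : Matrix (Fin h) (Fin h) F)) ((-(φ * b)) • (1 : Matrix (Fin h) (Fin h) F))
          (0 : Matrix (Fin h) (Fin h) F) ((φ * (a + i * b)) • (1 : Matrix (Fin h) (Fin h) F)) := by
      simp only [fromBlocks_multiply, Matrix.one_mul, Matrix.mul_one, Matrix.zero_mul, Matrix.mul_zero, add_zero,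
        zero_add, Matrix.smul_mul, Matrix.mul_smul, smul_smul, ← add_smul]
      congr 1 <;> (try simp only [smul_zero, add_zero, zero_add, smul_add, smul_smul]) <;> match_scalars <;>
        first | ring1 | linear_combination (φ * b) * hi
    have e3 := congrArg det e2
    rw [det_mul, det_mul, det_fromBlocks_zero₁₂, det_fromBlocks_zero₁₂, det_fromBlocks_zero₂₁, det_smul, det_smul,
      Fintype.card_fin, det_one, one_mul, one_mul, mul_one, mul_one, mul_one, ← e, det_submatrix_equiv_self,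
      ← mul_pow] at e3
    rw [e3, ← hdh]
    congr 1
    rw [← hφ]
    field_simp
    linear_combination hab' - (φ * b ^ 2 * σ φ) * hi

/-- Scalars are commutators. -/
theorem isC_scalar (hF : Fintype.card F = q ^ 2) (hσq : ∀ a, σ a = a ^ q) (hn : 0 < n) {ν : F} (hν : ν * σ ν = 1)
    (hνn : ν ^ n = 1) : IsC σ (ν • (1 : Matrix (Fin n) (Fin n) F)) := by
  have hσ : ∀ a, σ (σ a) = a := fun a => by rw [hσq, hσq, CfsgLib.Classical.pow_q_q hF]
  have hμn : σ ν ^ n = 1 := by rw [← map_pow, hνn, map_one]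
  obtain ⟨e, he⟩ : ∃ e : F, e = (-1) ^ (n - 1) := ⟨_, rfl⟩
  obtain ⟨D, hD⟩ : ∃ D, D = diagonal (fun i : Fin n => σ ν ^ (i : ℕ)) := ⟨_, rfl⟩
  have hee : e * σ e = 1 := by rw [he, map_pow, map_neg, map_one, ← mul_pow]; simp
  have hA : UStd σ (cyc n e) := ustd_cyc _ hn hee
  have hAd : (cyc n e).det = 1 := by rw [det_cyc _ hn, he, ← mul_pow]; simp
  have hDU : UStd σ D := by
    rw [UStd, hD, ct, diagonal_map (map_zero σ), diagonal_transpose, diagonal_mul_diagonal, ← diagonal_one]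
    congr 1
    funext i
    show σ (σ ν ^ (i : ℕ)) * σ ν ^ (i : ℕ) = 1
    rw [map_pow, hσ, ← mul_pow, hν, one_pow]
  have hAD : cyc n e * D = ν • (D * cyc n e) := by rw [hD]; exact cyc_mul_diag n hν hμn
  suffices h : ∃ c, UStd σ c ∧ c * cyc n e = cyc n e * c ∧ c.det * D.det = 1 by
    obtain ⟨c, hc, hcA, hcd⟩ := h
    refine ⟨cyc n e, c * D, hA, hc.mul hDU, hAd, by rw [det_mul, hcd], ?_⟩
    rw [← Matrix.mul_assoc, ← hcA, Matrix.mul_assoc c, hAD]
    simp only [Matrix.mul_smul, Matrix.smul_mul]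
    rw [← Matrix.mul_assoc c, Matrix.mul_assoc (c * D), hA.right, Matrix.mul_one, (hc.mul hDU).right]
  have hdet : D.det = σ ν ^ ∑ i ∈ Finset.range n, i := by
    rw [hD, det_diagonal, Finset.prod_pow_eq_pow_sum, Fin.sum_univ_eq_sum_range fun i => i]
  have hsum := Finset.sum_range_id_mul_two n
  rcases Nat.even_or_odd' n with ⟨k, rfl | rfl⟩
  · rw [show ∑ i ∈ Finset.range (2 * k), i = k * (2 * k - 1) from Nat.eq_of_mul_eq_mul_right two_pos (by
      rw [hsum]; ring), pow_mul] at hdet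
    have hk : σ ν ^ k * σ ν ^ k = 1 := by rw [← pow_add, ← two_mul, hμn]
    rcases mul_self_eq_one_iff.1 hk with h1 | h1
    · exact ⟨1, by simp [UStd], by simp, by rw [hdet, h1, one_pow, det_one, one_mul]⟩
    by_cases h2 : (2 : F) = 0
    · have : (-1 : F) = 1 := by linear_combination -h2
      exact ⟨1, by simp [UStd], by simp, by rw [hdet, h1, this, one_pow, det_one, one_mul]⟩
    obtain ⟨c, hc1, hc2, hc3⟩ := exists_det_neg hF hσq (h := k) (by omega) h2 (d := σ ν) (by rw [hσ, mul_comm, hν]) h1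
    have hek : e = -1 := by rw [he]; exact Odd.neg_one_pow ⟨k - 1, by omega⟩
    subst hek
    revert c
    rw [← two_mul]
    intro c hc1 hc2 hc3
    exact ⟨c, hc1, hc2, by rw [hc3, hdet, h1, Odd.neg_one_pow ⟨k - 1, by omega⟩]; simp⟩
  · rw [show ∑ i ∈ Finset.range (2 * k + 1), i = (2 * k + 1) * k from Nat.eq_of_mul_eq_mul_right two_pos (by
      rw [hsum, Nat.add_sub_cancel]; ring), pow_mul, hμn, one_pow] at hdet
    exact ⟨1, by simp [UStd], by simp, by rw [hdet, det_one, one_mul]⟩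

end CfsgLib.SUComm
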