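import Cfsg.Agent.Lib.Classical.SUComm.Models
import Cfsg.Agent.Lib.Classical.SUComm.Scalar

/-!
# Every element is a commutator when the field has at least nine elements
-/

set_option autoImplicit false
set_option linter.unusedSectionVars false

namespace CfsgLib.SUComm

open Matrix

variable {F : Type*} [Field F] [Fintype F] {σ : F →+* F} {n q : ℕ}

theorem scalar_facts (hn : 0 < n) {g : Matrix (Fin n) (Fin n) F} (hg : UStd σ g) (hdet : g.det = 1) {c : F}
    (hc : g = c • 1) : c * σ c = 1 ∧ c ^ n = 1 := by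
  subst hc
  rw [det_smul, det_one, mul_one, Fintype.card_fin] at hdet
  refine ⟨?_, hdet⟩
  have := congrFun (congrFun (show ct σ (c • (1 : Matrix (Fin n) (Fin n) F)) * (c • 1) = 1 from hg) ⟨0, hn⟩) ⟨0, hn⟩
  simpa [mul_comm] using this

theorem isC_large (hF : Fintype.card F = q ^ 2) (hσq : ∀ x, σ x = x ^ q) (hq : 3 ≤ q) (hn : 3 ≤ n)
    {g : Matrix (Fin n) (Fin n) F} (hg : UStd σ g) (hdet : g.det = 1) : IsC σ g := by
  by_cases hs : ∃ c : F, g = c • 1
  · obtain ⟨c, hc⟩ := hs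
    obtain ⟨h1, h2⟩ := scalar_facts (by omega) hg hdet hc
    rw [hc]
    exact isC_scalar hF hσq (by omega) h1 h2
  · exact isC_of_not_scalar hF hσq hq hn hg hdet hs

/-- Transfer to the subgroup of the special linear group. -/
theorem commutator_su (hF : Fintype.card F = q ^ 2) (hσq : ∀ x, σ x = x ^ q)
    (h : ∀ g : Matrix (Fin n) (Fin n) F, UStd σ g → g.det = 1 → IsC σ g) (g : Cfsg.SU n F q) :
    ∃ a b : Cfsg.SU n F q, g = a * b * a⁻¹ * b⁻¹ := by
  have mem : ∀ x : Matrix.SpecialLinearGroup (Fin n) F, x ∈ Cfsg.SU n F q ↔ UStd σ x.val := fun x => by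
    rw [UStd, ← starQ_eq_ct hσq]
    exact CfsgLib.Classical.GUConj.mem_gu_iff_starQ hF (Matrix.SpecialLinearGroup.toGL x)
  obtain ⟨a, z, ha, hz, had, hzd, e⟩ := h g.1.val ((mem _).1 g.2) g.1.2
  obtain ⟨A, hA⟩ : ∃ A : Cfsg.SU n F q, A.1.val = a := ⟨⟨⟨a, had⟩, (mem _).2 ha⟩, rfl⟩
  obtain ⟨B, hB⟩ : ∃ B : Cfsg.SU n F q, B.1.val = z := ⟨⟨⟨z, hzd⟩, (mem _).2 hz⟩, rfl⟩
  refine ⟨A, B, ?_⟩
  have key : g * B * A = A * B := by
    apply Subtype.ext
    apply Subtype.ext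
    show g.1.val * B.1.val * A.1.val = A.1.val * B.1.val
    rw [hA, hB, e, Matrix.mul_assoc (_ * ct σ z) z, Matrix.mul_assoc (a * z * ct σ a) (ct σ z),
      ← Matrix.mul_assoc (ct σ z) z, show ct σ z * z = 1 from hz, Matrix.one_mul, Matrix.mul_assoc (a * z) (ct σ a),
      show ct σ a * a = 1 from ha, Matrix.mul_one]
  rw [← key]
  group

end CfsgLib.SUComm
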