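import Cfsg.Agent.Lib.Classical.SUComm.Frame
import Cfsg.Agent.Lib.Classical.SUComm.AMatTwo

/-!
# Non-scalar elements: models and assembly
-/

set_option autoImplicit false
set_option linter.unusedSectionVars false

namespace CfsgLib.SUComm

open Matrix Polynomial
open CfsgLib.Classical.RegularProduct (bordered bordered_sub bordered_one)

variable {F : Type*} [Field F] {σ : F →+* F}

theorem Fr.reindex {n : ℕ} {α α' β : Type*} [DecidableEq α] [DecidableEq α'] [DecidableEq β]
    {V : Matrix (Fin n) α F} {Z : Matrix (Fin n) β F} {W : Matrix (Fin n) α F} (h : Fr σ V Z W) (e : α' ≃ α) :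
    Fr σ (V.submatrix id e) Z (W.submatrix id e) := by
  refine ⟨?_, ?_, ?_, ?_, ?_, h.zz⟩
  · rw [ct_submatrix, ← Matrix.submatrix_mul _ _ _ _ _ Function.bijective_id, h.vv, submatrix_zero]; rfl
  · rw [ct_submatrix, ← Matrix.submatrix_mul _ _ _ _ _ Function.bijective_id, h.wv, submatrix_one_equiv]
  · rw [ct_submatrix, ← Matrix.submatrix_mul _ _ _ _ _ Function.bijective_id, h.ww, submatrix_zero]; rfl
  · rw [← Matrix.submatrix_id_id (ct σ Z), ← Matrix.submatrix_mul _ _ _ _ _ Function.bijective_id, h.zv, submatrix_zero]; rfl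
  · rw [← Matrix.submatrix_id_id (ct σ Z), ← Matrix.submatrix_mul _ _ _ _ _ Function.bijective_id, h.zw, submatrix_zero]; rfl

theorem isUnit_ct_inv_sub (hσ : ∀ x, σ (σ x) = x) {ι : Type*} [Fintype ι] [DecidableEq ι] {T Ti : Matrix ι ι F}
    (hT : T * Ti = 1) {c : F} (hc : c ≠ 0) (h : IsUnit (T - (σ c)⁻¹ • 1)) : IsUnit (ct σ Ti - c • 1) := by
  have hc' : σ c ≠ 0 := (map_ne_zero σ).2 hc
  have e : ct σ Ti - c • 1 = ct σ ((-σ c) • (Ti * (T - (σ c)⁻¹ • 1))) := by
    rw [Matrix.mul_sub, mul_eq_one_comm.1 hT, Matrix.mul_smul, Matrix.mul_one, smul_sub, smul_smul, neg_mul,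
      mul_inv_cancel₀ hc']
    simp [hσ]; abel
  rw [e]
  exact isUnit_ct σ (((IsUnit.of_mul_eq_one T (mul_eq_one_comm.1 hT)).mul h).smul
    (Units.mk0 (-σ c) (neg_ne_zero.2 hc')))

variable [Fintype F] {q n : ℕ}

/-- A frame, a decomposition of the corner block and a model give a commutator. -/
theorem isC_of_model (hF : Fintype.card F = q ^ 2) (hσq : ∀ x, σ x = x ^ q) (hσ : ∀ x, σ (σ x) = x)
    {α β : Type*} [Fintype α] [DecidableEq α] [Fintype β] [DecidableEq β] {g : Matrix (Fin n) (Fin n) F}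
    (hg : UStd σ g) (hdet : g.det = 1) {V : Matrix (Fin n) α F} {Z : Matrix (Fin n) β F} {W : Matrix (Fin n) α F}
    (hfr : Fr σ V Z W) (hcard : Fintype.card (α ⊕ (β ⊕ α)) = n) (hβ : Fintype.card β ≤ 1)
    (ha1 : (ct σ W * g * V).det = 1) {T Ti : Matrix α α F} (hT : T * Ti = 1) (hdec : Dec T (ct σ W * g * V))
    {s : F} (hs : s * σ s = 1) {p : F[X]} (hTs : IsUnit (T - s • 1)) (hp : aeval T p = 0)
    (hp' : IsUnit (aeval (ct σ Ti) p)) (hD : T.det * s ^ Fintype.card β * σ Ti.det = 1)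
    (hcen : ∀ t : F, t * σ t = 1 → ∃ S Si c, S * Si = 1 ∧ S * T = T * S ∧ c * σ c = 1 ∧
      S.det * c ^ Fintype.card β * σ Si.det = t) : IsC σ g := by
  have hTi : Ti * T = 1 := mul_eq_one_comm.1 hT
  obtain ⟨P, Q, ⟨S, hS, eS⟩, ⟨S', hS', eS'⟩, e⟩ := hdec
  obtain ⟨Si, hSi⟩ := hS.exists_right_inv
  obtain ⟨S'i, hS'i⟩ := hS'.exists_right_inv
  have hP : P = S * T * Si := by rw [← eS, Matrix.mul_assoc, hSi, Matrix.mul_one]
  have hQ : Q = S' * T * S'i := by rw [← eS', Matrix.mul_assoc, hS'i, Matrix.mul_one]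
  have ha : ct σ W * g * V = S * T * Si * (S' * Ti * S'i) := by
    rw [← hP, ← e, Matrix.mul_assoc (ct σ W * g * V) Q, hQ]
    have : S' * T * S'i * (S' * Ti * S'i) = 1 := by
      calc S' * T * S'i * (S' * Ti * S'i) = S' * (T * (S'i * S') * Ti) * S'i := by simp only [Matrix.mul_assoc]
        _ = 1 := by rw [mul_eq_one_comm.1 hS'i, Matrix.mul_one, hT, Matrix.mul_one, hS'i]
    rw [this, Matrix.mul_one]
  obtain ⟨hM, hMdet, hMeq⟩ := hfr.matrix hσ hcard hg
  obtain ⟨A, B, hA, hB, hAB, hAD, hBD⟩ := exists_pair σ hσ hβ hM (hMdet.trans hdet) ha1 hT hSi hS'i ha hs hTs hp hp'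
  have hdd : ∀ (S Si : Matrix α α F) (c : F), (dia σ β S Si c).det = S.det * c ^ Fintype.card β * σ Si.det :=
    fun S Si c => by rw [dia, det_blk_upper, det_smul, det_one, mul_one, det_ct, mul_assoc]
  refine isC_of_frame hF hσq hσ (Fintype.equivFinOfCardEq hcard) (hfr.gram_eq hσ) hA hB (gun_dia σ hσ hT hs)
    (by rw [← hMeq]; exact hAB) hAD hBD (by rw [hdd, hD]) fun t ht => ?_
  obtain ⟨R, Ri, c, hR, hRT, hc, hRd⟩ := hcen t ht
  refine ⟨dia σ β R Ri c, gun_dia σ hσ hR hc, ?_, by rw [hdd, hRd]⟩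
  have hcomm : Ti * Ri = Ri * Ti := by
    calc Ti * Ri = Ri * (R * Ti) * Ri := by
          rw [← Matrix.mul_assoc Ri R, mul_eq_one_comm.1 hR, Matrix.one_mul]
      _ = Ri * (Ti * (T * R) * Ti) * Ri := by rw [← Matrix.mul_assoc Ti T, hTi, Matrix.one_mul]
      _ = Ri * (Ti * (R * (T * Ti))) * Ri := by rw [← hRT]; simp only [Matrix.mul_assoc]
      _ = Ri * Ti * (R * Ri) := by rw [hT, Matrix.mul_one]; simp only [Matrix.mul_assoc]
      _ = Ri * Ti := by rw [hR, Matrix.mul_one]
  simp [dia, blk_mul, blk_inj, hRT, ← ct_mul, hcomm, smul_smul, mul_comm c s]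

theorem exists_ratio (hF : Fintype.card F = q ^ 2) (hσq : ∀ x, σ x = x ^ q) {t : F} (ht : t * σ t = 1) :
    ∃ c, c ≠ 0 ∧ c * (σ c)⁻¹ = t := by
  have hσ : ∀ a, σ (σ a) = a := fun a => by rw [hσq, hσq, CfsgLib.Classical.pow_q_q hF]
  obtain ⟨a, ha⟩ : ∃ a : F, a + t * σ a ≠ 0 := by
    by_contra h
    push Not at h
    obtain ⟨x, hx0, -, hx⟩ := exists_gen hF hσq
    have h1 := h 1
    rw [map_one, mul_one] at h1
    have h2 := h x
    rw [show t = -1 by linear_combination h1, hσq] at h2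
    have hq := CfsgLib.Classical.two_le_q hF
    have : q * 2 ≤ q ^ 2 := by rw [sq]; exact Nat.mul_le_mul_left q hq
    refine hx (q - 1) (by omega) (by omega) (mul_left_cancel₀ hx0 ?_)
    rw [← pow_succ', show q - 1 + 1 = q by omega, mul_one]
    linear_combination -h2
  refine ⟨_, ha, ?_⟩
  rw [mul_inv_eq_iff_eq_mul₀ ((map_ne_zero σ).2 ha), map_add, map_mul, hσ]
  linear_combination -a * ht

/-- An irreducible quadratic which is not reciprocal to its conjugate. -/
theorem exists_tau (hF : Fintype.card F = q ^ 2) (hσq : ∀ x, σ x = x ^ q) (hq : 3 ≤ q) {δ : F} (hδ : δ ≠ 0) :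
    ∃ τ : F, τ ≠ 0 ∧ NoRoot τ δ ∧ σ τ ≠ τ * σ δ := by
  classical
  obtain ⟨f, hf⟩ : ∃ f : F → F, f = fun x => x + δ / x := ⟨_, rfl⟩
  obtain ⟨S, hS⟩ : ∃ S : Finset F, S = Finset.univ.erase 0 := ⟨_, rfl⟩
  obtain ⟨Fx, hFx⟩ : ∃ Fx : Finset F, Fx = Finset.univ.filter fun x => x ^ 2 = δ := ⟨_, rfl⟩
  have h2 : Fx.card ≤ 2 := by
    refine le_trans (Finset.card_le_card (t := (X ^ 2 - Polynomial.C δ).roots.toFinset) fun x hx => ?_)
      ((Multiset.toFinset_card_le _).trans ((Polynomial.card_roots' _).trans (le_of_eq (by simp))))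
    rw [hFx, Finset.mem_filter] at hx
    simp [Polynomial.mem_roots (X_pow_sub_C_ne_zero two_pos δ), hx.2]
  have himg : 2 * (S.image f).card ≤ S.card + 2 := by
    have hsum : S.card = ∑ y ∈ S.image f, (S.filter fun x => f x = y).card := Finset.card_eq_sum_card_image f S
    have h1 : ∀ y ∈ S.image f, 2 ≤ (S.filter fun x => f x = y).card + if y ∈ Fx.image f then 1 else 0 := by
      intro y hy
      obtain ⟨x, hx, rfl⟩ := Finset.mem_image.1 hy
      have hx0 : x ≠ 0 := by rw [hS] at hx; exact (Finset.mem_erase.1 hx).1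
      split_ifs with h
      · have : 0 < (S.filter fun z => f z = f x).card := Finset.card_pos.2 ⟨x, by simp [hx]⟩
        omega
      · have hne : δ / x ≠ x := fun e => h (Finset.mem_image.2 ⟨x, by
          simp [hFx]; rw [div_eq_iff hx0] at e; linear_combination -e, rfl⟩)
        have hmem : δ / x ∈ S.filter fun z => f z = f x := by
          refine Finset.mem_filter.2 ⟨?_, ?_⟩
          · simp [hS, hδ, hx0]
          · simp only [hf]; field_simp; ring
        exact le_of_eq_of_le (Finset.card_pair hne).symm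
          (le_trans (Finset.card_le_card (Finset.insert_subset hmem (Finset.singleton_subset_iff.2 (by simp [hx]))))
            (Nat.le_add_right _ _))
    have h3 := Finset.sum_le_sum h1
    rw [Finset.sum_add_distrib, ← hsum, Finset.sum_const, smul_eq_mul, Finset.sum_boole, Nat.cast_id] at h3
    have h4 : ((S.image f).filter fun y => y ∈ Fx.image f).card ≤ 2 :=
      (Finset.card_le_card (fun y hy => (Finset.mem_filter.1 hy).2)).trans (Finset.card_image_le.trans h2)
    omega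
  obtain ⟨B, hB⟩ : ∃ B : Finset F, B = Finset.univ.filter fun τ => σ τ = τ * σ δ := ⟨_, rfl⟩
  have hBc : B.card ≤ q := by
    have hdeg : (X ^ q - Polynomial.C (σ δ) * X : F[X]).natDegree = q := by
      rw [natDegree_sub_eq_left_of_natDegree_lt] <;> simp [natDegree_C_mul_X _ ((map_ne_zero σ).2 hδ)]
      omega
    refine le_trans (Finset.card_le_card (t := (X ^ q - Polynomial.C (σ δ) * X).roots.toFinset) fun x hx => ?_)
      ((Multiset.toFinset_card_le _).trans ((Polynomial.card_roots' _).trans hdeg.le))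
    rw [hB, Finset.mem_filter, hσq x] at hx
    rw [Multiset.mem_toFinset, mem_roots (fun e => by rw [e, natDegree_zero] at hdeg; omega)]
    simp only [IsRoot.def, eval_sub, eval_pow, eval_X, eval_mul, eval_C, hx.2]
    ring
  have hcard : S.card = q ^ 2 - 1 := by rw [hS, Finset.card_erase_of_mem (Finset.mem_univ _), Finset.card_univ, hF]
  obtain ⟨τ, hτ⟩ : ∃ τ, τ ∉ S.image f ∪ B := by
    by_contra h
    push Not at h
    have := Finset.card_le_card (fun x (_ : x ∈ (Finset.univ : Finset F)) => h x)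
    rw [Finset.card_univ, hF] at this
    have := Finset.card_union_le (S.image f) B
    have : q * 3 ≤ q ^ 2 := by rw [sq]; exact Nat.mul_le_mul_left q hq
    omega
  simp only [Finset.mem_union, not_or] at hτ
  have hB' : σ τ ≠ τ * σ δ := fun e => hτ.2 (by simp [hB, e])
  refine ⟨τ, fun e => hB' (by simp [e]), fun x hx => hτ.1 (Finset.mem_image.2 ?_), hB'⟩
  have hx0 : x ≠ 0 := fun e => hδ (by rw [e] at hx; linear_combination hx)
  refine ⟨x, by simp [hS, hx0], ?_⟩
  simp only [hf]; field_simp; linear_combination hx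

theorem bordered_diag_sub {k : ℕ} (a d : F) (D : Matrix (Fin k) (Fin k) F) :
    bordered a 0 0 D - d • 1 = bordered (a - d) 0 0 (D - d • 1) := by
  ext i j
  induction i using Fin.cases <;> induction j using Fin.cases <;>
    simp [Matrix.one_apply, Fin.succ_ne_zero, (Fin.succ_ne_zero _).symm]

theorem bordered_diag_pow {k : ℕ} (a : F) (D : Matrix (Fin k) (Fin k) F) (j : ℕ) :
    bordered a 0 0 D ^ j = bordered (a ^ j) 0 0 (D ^ j) := by
  induction j with
  | zero => simp [bordered_one]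
  | succ j ih => rw [pow_succ, ih, bordered_diag_mul, pow_succ, pow_succ]

theorem det_bordered_diag {k : ℕ} (a : F) (D : Matrix (Fin k) (Fin k) F) :
    (bordered a 0 0 D).det = a * D.det := by
  rw [det_succ_column_zero, Fin.sum_univ_succ]
  simp [show (bordered a 0 0 D).submatrix Fin.succ Fin.succ = D from by ext i j; simp]

theorem det_jmat (l : ℕ) (a : F) : (jmat l a).det = a ^ l := by
  rw [jmat, det_smul, Fintype.card_fin]
  have h : (1 + CfsgLib.Classical.RegularProduct.shift l : Matrix (Fin l) (Fin l) F).det = 1 := by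
    rw [det_of_lowerTriangular _ (fun i j hij => ?_)]
    · simp [CfsgLib.Classical.RegularProduct.shift]
    · have hij' : i < j := hij
      have hij'' : (i : ℕ) < j := hij'
      simp [CfsgLib.Classical.RegularProduct.shift, Matrix.one_apply, Fin.ext_iff, hij''.ne]
      omega
  rw [h, mul_one]

theorem isUnit_quad_jmat (l : ℕ) {b u v : F} (h : b ^ 2 - u * b + v ≠ 0) :
    IsUnit (jmat l b * jmat l b - u • jmat l b + v • 1) := by
  open CfsgLib.Classical.RegularProduct in
  have e : jmat l b * jmat l b - u • jmat l b + v • 1 = (b ^ 2 - u * b + v) • 1 +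
      shift l * ((b * (2 * b - u)) • 1 + (b ^ 2) • shift l) := by
    simp only [jmat]
    simp only [Matrix.mul_add, Matrix.add_mul, Matrix.smul_mul, Matrix.mul_smul, Matrix.one_mul, Matrix.mul_one,
      smul_add, smul_smul]
    module
  rw [e]
  refine IsNilpotent.isUnit_add_left_of_commute ⟨l, ?_⟩ (isUnit_one.smul (Units.mk0 _ h))
    ((Commute.one_right _).smul_right _)
  rw [Commute.mul_pow, shift_pow_self, Matrix.zero_mul]
  exact ((Commute.one_right _).smul_right _).add_right ((Commute.refl _).smul_right _)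

theorem isUnit_comp2_sub {τ δ : F} (h : NoRoot τ δ) (x : F) : IsUnit (comp2 τ δ - x • 1) := by
  rw [isUnit_iff_isUnit_det, isUnit_iff_ne_zero, det_fin_two]
  simp [comp2]
  intro e
  exact h x (by linear_combination e)

/-- Non-scalar elements are commutators. -/
theorem isC_of_not_scalar (hF : Fintype.card F = q ^ 2) (hσq : ∀ x, σ x = x ^ q) (hq : 3 ≤ q) (hn : 3 ≤ n)
    {g : Matrix (Fin n) (Fin n) F} (hg : UStd σ g) (hdet : g.det = 1) (hns : ¬ ∃ c : F, g = c • 1) : IsC σ g := by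
  have hσ : ∀ a, σ (σ a) = a := fun a => by rw [hσq, hσq, CfsgLib.Classical.pow_q_q hF]
  have hq9 : q * 3 ≤ q ^ 2 := by rw [sq]; exact Nat.mul_le_mul_left q hq
  have hK : 4 ≤ Cardinal.mk F := by
    rw [Cardinal.mk_fintype, hF]
    exact_mod_cast (show 4 ≤ q ^ 2 by omega)
  obtain ⟨l0, hl0, -, hgen⟩ := exists_gen hF hσq
  have hN : l0 * σ l0 ≠ 1 := by
    rw [hσq, ← pow_succ']; exact hgen _ (Nat.succ_pos _) (by omega)
  have hl2 : l0 * l0 ≠ 1 := by rw [← sq]; exact hgen 2 two_pos (by omega)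
  have hσl : σ l0 ≠ l0 := fun e => by
    rw [hσq] at e
    refine hgen (q - 1) (by omega) (by omega) (mul_left_cancel₀ hl0 ?_)
    rw [← pow_succ', show q - 1 + 1 = q by omega, e, mul_one]
  have hσ0 : σ l0 ≠ 0 := (map_ne_zero σ).2 hl0
  have hσl2 : σ l0 * σ l0 ≠ 1 := fun e => hl2 (σ.injective (by rw [map_mul, e, map_one]))
  obtain ⟨m, k, V, Z, W, hfr, hk, hmk, ha1, ha00⟩ := exists_frame hF hσq hq n g (by omega) hg hdet hns
  -- facts about the first model
  have one : ∀ d, d ≠ σ l0 → d ≠ l0 → IsUnit (bordered (σ l0) 0 0 (jmat m l0) - d • 1) := fun d h1 h2 => by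
    rw [bordered_diag_sub]
    exact isUnit_bordered_lower (sub_ne_zero.2 (Ne.symm h1)) (isUnit_jmat_sub _ h2.symm) 0
  obtain ⟨p, hpdef⟩ : ∃ p : F[X], p = (X - Polynomial.C (σ l0)) * (X - Polynomial.C l0) ^ m := ⟨_, rfl⟩
  have hp : aeval (bordered (σ l0) 0 0 (jmat m l0)) p = 0 := by
    rw [hpdef, map_mul, map_pow]
    simp only [map_sub, aeval_X, aeval_C, Algebra.algebraMap_eq_smul_one, bordered_diag_sub, bordered_diag_pow,
      bordered_diag_mul, sub_self, zero_mul, jmat_nil, Matrix.mul_zero]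
    ext i j
    induction i using Fin.cases <;> induction j using Fin.cases <;> simp
  obtain ⟨Ti, hTi⟩ := (show IsUnit (bordered (σ l0) 0 0 (jmat m l0)) by
    simpa using one 0 hσ0.symm hl0.symm).exists_right_inv
  have hp' : IsUnit (aeval (ct σ Ti) p) := by
    rw [hpdef, map_mul, map_pow]
    simp only [map_sub, aeval_X, aeval_C, Algebra.algebraMap_eq_smul_one]
    refine (isUnit_ct_inv_sub hσ hTi hσ0 ?_).mul ((isUnit_ct_inv_sub hσ hTi hl0 (one _ ?_ ?_)).pow m)
    · rw [hσ]
      exact one _ (fun e => hN (by rw [← e, mul_inv_cancel₀ hl0])) fun e => hl2 (by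
        nth_rw 2 [← e]; rw [mul_inv_cancel₀ hl0])
    · exact fun e => hσl2 (by nth_rw 2 [← e]; rw [mul_inv_cancel₀ hσ0])
    · exact fun e => hN (by nth_rw 1 [← e]; rw [inv_mul_cancel₀ hσ0])
  have hdec := dec_one_block hK hσ0 hσl (ct σ W * g * V) ha1 ha00
  rcases (by omega : k = 1 ∨ k = 0) with rfl | rfl
  · obtain ⟨d, hd⟩ : ∃ d, d = (bordered (σ l0) 0 0 (jmat m l0)).det := ⟨_, rfl⟩
    have hdi : d * Ti.det = 1 := by rw [hd, ← det_mul, hTi, det_one]
    have hd0 : d ≠ 0 := left_ne_zero_of_mul_eq_one hdi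
    have hdi' : Ti.det = d⁻¹ := eq_inv_of_mul_eq_one_right hdi
    have hσd : σ d ≠ 0 := (map_ne_zero σ).2 hd0
    have hs : σ d / d * σ (σ d / d) = 1 := by rw [map_div₀, hσ]; field_simp
    refine isC_of_model hF hσq hσ hg hdet hfr (by simp; omega) (by simp) ha1 hTi hdec hs (one _ ?_ ?_) hp hp' ?_ ?_
    · intro e; apply hN; rw [e, hσ] at hs; rw [mul_comm]; exact hs
    · intro e; apply hN; rw [e] at hs; exact hs
    · rw [Fintype.card_fin, pow_one, ← hd, hdi', map_inv₀]; field_simp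
    · intro t ht
      exact ⟨1, 1, t, Matrix.one_mul _, by rw [Matrix.one_mul, Matrix.mul_one], ht, by simp⟩
  rcases (by omega : m = 1 ∨ 2 ≤ m) with rfl | hm
  · have hdT : (bordered (σ l0) 0 0 (jmat 1 l0)).det = σ l0 * l0 := by
      rw [det_bordered_diag, det_jmat, pow_one]
    refine isC_of_model hF hσq hσ hg hdet hfr (by simp; omega) (by simp) ha1 hTi hdec (s := 1) (by simp)
      (one _ ?_ ?_) hp hp' ?_ fun t ht => ?_
    · exact fun e => hl2 (σ.injective (by rw [map_mul, ← e, map_one, one_mul]))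
    · exact fun e => hl2 (by rw [← e, one_mul])
    · have hdi : Ti.det = (σ l0 * l0)⁻¹ := eq_inv_of_mul_eq_one_right (by rw [← hdT, ← det_mul, hTi, det_one])
      rw [hdT, hdi, map_inv₀, map_mul, hσ]; simp [hσ0, hl0]; field_simp
    · obtain ⟨c, hc0, hct⟩ := exists_ratio hF hσq ht
      refine ⟨bordered c 0 0 1, bordered c⁻¹ 0 0 1, 1, ?_, ?_, by simp, ?_⟩
      · rw [bordered_diag_mul, mul_inv_cancel₀ hc0, Matrix.one_mul, ← bordered_one]
      · rw [bordered_diag_mul, bordered_diag_mul, mul_comm c, Matrix.one_mul, Matrix.mul_one]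
      · simp [det_bordered_diag, map_inv₀, hct]
  · obtain ⟨l, rfl⟩ : ∃ l, m = l + 2 := ⟨m - 2, by omega⟩
    clear hdec hp hp' hTi one hpdef p Ti
    obtain ⟨δ, hδdef⟩ : ∃ δ, δ = (l0 ^ (l + 1))⁻¹ := ⟨_, rfl⟩
    have hδ : δ ≠ 0 := by rw [hδdef]; exact inv_ne_zero (pow_ne_zero _ hl0)
    have hσδ : σ δ ≠ 0 := (map_ne_zero σ).2 hδ
    obtain ⟨τ, hτ, hnr, hself⟩ := exists_tau hF hσq hq hδ
    have hdec := dec_two_block (b := l0) hK hτ hδ hnr (ct σ W * g * V) ha1 ha00
    have one : ∀ d, d ≠ l0 → IsUnit (fromBlocks (comp2 τ δ) 0 0 (jmat (l + 1) l0) - d • 1) := fun d h2 => by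
      rw [← fromBlocks_one, fromBlocks_smul, sub_eq_add_neg, fromBlocks_neg, fromBlocks_add]
      simpa [← sub_eq_add_neg] using
        SpComm.isUnit_fromBlocks_diag (isUnit_comp2_sub hnr d) (isUnit_jmat_sub _ h2.symm)
    obtain ⟨Ti, hTi⟩ := (show IsUnit (fromBlocks (comp2 τ δ) 0 0 (jmat (l + 1) l0)) by
      simpa using one 0 hl0.symm).exists_right_inv
    obtain ⟨T, hTdef⟩ : ∃ T, T = fromBlocks (comp2 τ δ) 0 0 (jmat (l + 1) l0) := ⟨_, rfl⟩
    have hcsq : comp2 τ δ * comp2 τ δ = τ • comp2 τ δ - δ • 1 := by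
      ext i j; fin_cases i <;> fin_cases j <;> simp [comp2, Matrix.mul_apply, Fin.sum_univ_two] <;> ring
    rw [← hTdef] at hdec one hTi
    have hdT : T.det = 1 := by
      rw [hTdef, det_fromBlocks_zero₁₂, det_jmat, det_fin_two]
      simp [comp2, hδdef, hl0]
    have hquad : IsUnit (T * T - (σ τ / σ δ) • T + (σ δ)⁻¹ • 1) := by
      rw [hTdef, fromBlocks_multiply, fromBlocks_smul, ← fromBlocks_one, fromBlocks_smul, sub_eq_add_neg,
        fromBlocks_neg, fromBlocks_add, fromBlocks_add]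
      simp only [Matrix.mul_zero, Matrix.zero_mul, add_zero, zero_add, neg_zero, smul_zero, ← sub_eq_add_neg]
      refine SpComm.isUnit_fromBlocks_diag ?_ (isUnit_quad_jmat _ ?_)
      · have hne : τ - σ τ / σ δ ≠ 0 := fun e => hself (by
          rw [sub_eq_zero] at e; nth_rw 2 [e]; field_simp)
        have e : comp2 τ δ * comp2 τ δ - (σ τ / σ δ) • comp2 τ δ + (σ δ)⁻¹ • 1 =
            (τ - σ τ / σ δ) • (comp2 τ δ - ((δ - (σ δ)⁻¹) / (τ - σ τ / σ δ)) • 1) := by
          rw [hcsq, smul_sub, smul_smul, mul_div_cancel₀ _ hne]; module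
        rw [e]
        exact (isUnit_comp2_sub hnr _).smul (Units.mk0 _ hne)
      · intro e
        apply hnr (σ l0⁻¹)
        have e' := congrArg σ e
        simp only [map_add, map_sub, map_mul, map_pow, map_div₀, map_inv₀, map_zero, hσ] at e'
        rw [map_inv₀]
        field_simp at e' ⊢
        linear_combination e'
    obtain ⟨p, hp⟩ : ∃ p : F[X], p = (X ^ 2 - Polynomial.C τ * X + Polynomial.C δ) * (X - Polynomial.C l0) ^ (l + 1) :=
      ⟨_, rfl⟩
    have hp0 : aeval T p = 0 := by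
      rw [hTdef, SpComm.aeval_fromBlocks, hp]
      simp only [map_mul, map_pow, map_add, map_sub, aeval_X, aeval_C, Algebra.algebraMap_eq_smul_one, jmat_nil,
        Matrix.mul_zero, Matrix.smul_mul, Matrix.one_mul]
      rw [sq, hcsq, show τ • comp2 τ δ - δ • (1 : Matrix (Fin 2) (Fin 2) F) - τ • comp2 τ δ + δ • 1 = 0 by abel]
      simp
    have hp1 : IsUnit (aeval (ct σ Ti) p) := by
      rw [hp, map_mul, map_pow]
      refine IsUnit.mul ?_ (IsUnit.pow _ ?_)
      · simp only [map_add, map_sub, map_mul, map_pow, aeval_X, aeval_C, Algebra.algebraMap_eq_smul_one,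
          Matrix.smul_mul, Matrix.one_mul, sq]
        have hTi' : Ti * T = 1 := mul_eq_one_comm.1 hTi
        have e : ct σ Ti * ct σ Ti - τ • ct σ Ti + δ • 1 =
            ct σ (σ δ • (Ti * Ti * (T * T - (σ τ / σ δ) • T + (σ δ)⁻¹ • 1))) := by
          rw [Matrix.mul_add, Matrix.mul_sub, Matrix.mul_smul, Matrix.mul_smul, Matrix.mul_one,
            show Ti * Ti * (T * T) = 1 by rw [← Matrix.mul_assoc, Matrix.mul_assoc Ti Ti T, hTi', Matrix.mul_one, hTi'],
            Matrix.mul_assoc Ti Ti T, hTi', Matrix.mul_one, smul_add, smul_sub, smul_smul, smul_smul,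
            mul_div_cancel₀ _ hσδ, mul_inv_cancel₀ hσδ, one_smul]
          simp [ct_mul, hσ]; abel
        rw [e]
        exact isUnit_ct σ ((((IsUnit.of_mul_eq_one T hTi').mul (IsUnit.of_mul_eq_one T hTi')).mul hquad).smul
          (Units.mk0 (σ δ) hσδ))
      · simp only [map_sub, aeval_X, aeval_C, Algebra.algebraMap_eq_smul_one]
        exact isUnit_ct_inv_sub hσ hTi hl0 (one _ fun e => hN (by nth_rw 1 [← e]; rw [inv_mul_cancel₀ hσ0]))
    refine isC_of_model hF hσq hσ hg hdet (hfr.reindex (e2 (l + 1))) (by simp; omega) (by simp) ?_ hTi ?_ (s := 1)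
      (by simp) (one _ (fun e => hl2 (by rw [← e, one_mul]))) hp0 hp1 ?_ fun t ht => ?_
    · rw [ct_submatrix, show (ct σ W).submatrix (e2 (l + 1)) id * g = (ct σ W * g).submatrix (e2 (l + 1)) id from by
        ext i j; simp [Matrix.mul_apply], ← Matrix.submatrix_mul _ _ _ _ _ Function.bijective_id,
        det_submatrix_equiv_self, ha1]
    · rw [ct_submatrix, show (ct σ W).submatrix (e2 (l + 1)) id * g = (ct σ W * g).submatrix (e2 (l + 1)) id from by
        ext i j; simp [Matrix.mul_apply], ← Matrix.submatrix_mul _ _ _ _ _ Function.bijective_id]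
      exact hdec
    · rw [hdT, show Ti.det = 1 by
        have := congrArg det hTi; rwa [det_mul, hdT, one_mul, det_one] at this]
      simp
    obtain ⟨c, hc0, hct⟩ := exists_ratio hF hσq ht
    obtain ⟨x, y, hxy⟩ : ∃ x y : F, x ^ 2 + τ * x * y + δ * y ^ 2 = c := by
      rcases eq_or_ne (ringChar F) 2 with h2 | h2
      · obtain ⟨r, hr⟩ := FiniteField.isSquare_of_char_two h2 c
        exact ⟨r, 0, by rw [hr]; ring⟩
      · have h2' : (2 : F) ≠ 0 := Ring.two_ne_zero h2
        obtain ⟨r, y, hry⟩ := FiniteField.exists_root_sum_quadratic (R := F)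
          (f := Polynomial.C 1 * X ^ 2 + Polynomial.C 0 * X + Polynomial.C 0)
          (g := Polynomial.C (δ - τ * τ / (2 * 2)) * X ^ 2 + Polynomial.C 0 * X + Polynomial.C (-c))
          (degree_quadratic one_ne_zero) (degree_quadratic fun e => hnr (τ / 2) (by
            field_simp at e ⊢; linear_combination e)) (FiniteField.odd_card_of_char_ne_two h2)
        simp only [eval_add, eval_mul, eval_pow, eval_C, eval_X] at hry
        refine ⟨r - τ * y / 2, y, ?_⟩
        field_simp at hry ⊢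
        linear_combination hry
    obtain ⟨E, hE⟩ : ∃ E, E = x • (1 : Matrix (Fin 2) (Fin 2) F) + y • comp2 τ δ := ⟨_, rfl⟩
    have hEd : E.det = c := by
      rw [← hxy, hE, det_fin_two]; simp [comp2]; ring
    obtain ⟨Ei, hEi⟩ := ((isUnit_iff_isUnit_det E).2 (by rw [hEd]; exact hc0.isUnit)).exists_right_inv
    have hEid : Ei.det = c⁻¹ := eq_inv_of_mul_eq_one_right (by rw [← hEd, ← det_mul, hEi, det_one])
    refine ⟨fromBlocks E 0 0 1, fromBlocks Ei 0 0 1, 1, ?_, ?_, by simp, ?_⟩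
    · simp [fromBlocks_multiply, hEi]
    · have hcomm : E * comp2 τ δ = comp2 τ δ * E := by
        rw [hE]; simp [Matrix.mul_add, Matrix.add_mul]
      simp [hTdef, fromBlocks_multiply, hcomm]
    · simp [det_fromBlocks_zero₁₂, hEd, hEid, map_inv₀, hct]

end CfsgLib.SUComm
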