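import Cfsg.Agent.Lib.Classical.SUComm.Core
import Cfsg.Agent.Lib.Classical.UnitaryConjugacy

/-!
# From frames to commutators in the special unitary group
-/

set_option autoImplicit false
set_option linter.unusedSectionVars false

namespace CfsgLib.SUComm

open Matrix CfsgLib.Classical

variable {F : Type*} [Field F]

/-- A unitary matrix for the standard form. -/
def UStd (σ : F →+* F) {n : ℕ} (g : Matrix (Fin n) (Fin n) F) : Prop := ct σ g * g = 1

/-- `g` is a commutator of unitary matrices of determinant one. -/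
def IsC (σ : F →+* F) {n : ℕ} (g : Matrix (Fin n) (Fin n) F) : Prop :=
  ∃ a z, UStd σ a ∧ UStd σ z ∧ a.det = 1 ∧ z.det = 1 ∧ g = a * z * ct σ a * ct σ z

variable {σ : F →+* F} {n : ℕ}

theorem UStd.mul {a b : Matrix (Fin n) (Fin n) F} (ha : UStd σ a) (hb : UStd σ b) : UStd σ (a * b) := by
  rw [UStd, ct_mul]
  calc ct σ b * ct σ a * (a * b) = ct σ b * (ct σ a * a) * b := by simp only [Matrix.mul_assoc]
    _ = 1 := by rw [ha, Matrix.mul_one]; exact hb

theorem UStd.right {a : Matrix (Fin n) (Fin n) F} (ha : UStd σ a) : a * ct σ a = 1 := mul_eq_one_comm.1 ha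

theorem UStd.ct (hσ : ∀ x, σ (σ x) = x) {a : Matrix (Fin n) (Fin n) F} (ha : UStd σ a) : UStd σ (ct σ a) := by
  rw [UStd, ct_ct σ hσ]; exact ha.right

theorem UStd.det_norm {a : Matrix (Fin n) (Fin n) F} (ha : UStd σ a) : a.det * σ a.det = 1 := by
  have := congrArg det ha
  rwa [det_mul, det_ct, det_one, mul_comm] at this

variable [Fintype F] {q : ℕ}

theorem starQ_eq_ct (hσq : ∀ x, σ x = x ^ q) (M : Matrix (Fin n) (Fin n) F) : GUConj.starQ q M = ct σ M := by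
  ext i j; simp [GUConj.starQ, ct, hσq]

/-- Similar unitary matrices are conjugate by a unitary matrix. -/
theorem exists_unitary_conj (hF : Fintype.card F = q ^ 2) (hσq : ∀ x, σ x = x ^ q)
    {A B : Matrix (Fin n) (Fin n) F} (hA : UStd σ A) (hB : UStd σ B) (h : Sim A B) :
    ∃ w, UStd σ w ∧ A = w * B * ct σ w := by
  obtain ⟨S, hS, e⟩ := h
  obtain ⟨Su, rfl⟩ := hS
  have mk : ∀ A : Matrix (Fin n) (Fin n) F, UStd σ A → ∃ G : Cfsg.GU n F q,
      ((G : GL (Fin n) F) : Matrix (Fin n) (Fin n) F) = A := fun A hA =>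
    ⟨⟨⟨A, ct σ A, hA.right, hA⟩, (GUConj.mem_gu_iff_starQ hF _).2 (by rw [starQ_eq_ct hσq]; exact hA)⟩, rfl⟩
  obtain ⟨GA, hGA⟩ := mk A hA
  obtain ⟨GB, hGB⟩ := mk B hB
  have hc : IsConj (GB : GL (Fin n) F) (GA : GL (Fin n) F) := by
    refine isConj_iff.2 ⟨Su, ?_⟩
    rw [mul_inv_eq_iff_eq_mul]
    apply Units.ext
    rw [Units.val_mul, Units.val_mul, hGA, hGB, e]
  obtain ⟨w, hw⟩ := isConj_iff.1 ((GUConj.isConj_iff_gl hF GB GA).2 hc)
  have hwU : UStd σ ((w : GL (Fin n) F) : Matrix (Fin n) (Fin n) F) := by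
    rw [UStd, ← starQ_eq_ct hσq]; exact (GUConj.mem_gu_iff_starQ hF _).1 w.2
  refine ⟨_, hwU, ?_⟩
  have hw' : w * GB = GA * w := mul_inv_eq_iff_eq_mul.1 hw
  have := congrArg (fun x : Cfsg.GU n F q => ((x : GL (Fin n) F) : Matrix (Fin n) (Fin n) F)) hw'
  simp only [Subgroup.coe_mul, Units.val_mul, hGA, hGB] at this
  rw [this, Matrix.mul_assoc, hwU.right, Matrix.mul_one]

/-- A quotient of two isometries similar to a model with all determinants in its centraliser. -/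
theorem isC_of_pair (hF : Fintype.card F = q ^ 2) (hσq : ∀ x, σ x = x ^ q) (hσ : ∀ x, σ (σ x) = x)
    {g A B D : Matrix (Fin n) (Fin n) F} (hA : UStd σ A) (hB : UStd σ B) (hD : UStd σ D) (hg : g * B = A)
    (hAD : Sim A D) (hBD : Sim B D) (hdet : D.det = 1)
    (hcen : ∀ t : F, t * σ t = 1 → ∃ z, UStd σ z ∧ z * D = D * z ∧ z.det = t) : IsC σ g := by
  obtain ⟨w, hw, eA⟩ := exists_unitary_conj hF hσq hA hD hAD
  obtain ⟨w', hw', eB⟩ := exists_unitary_conj hF hσq hB hD hBD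
  have hu : ∀ w : Matrix (Fin n) (Fin n) F, UStd σ w → (w * D * ct σ w).det = D.det := fun w hw => by
    rw [det_mul, det_mul, det_ct, mul_comm w.det, mul_assoc, hw.det_norm, mul_one]
  have hAdet : A.det = 1 := by rw [eA, hu w hw, hdet]
  have hww : UStd σ (w' * ct σ w) := hw'.mul (hw.ct hσ)
  obtain ⟨z, hz, hzD, hzdet⟩ := hcen (σ (w' * ct σ w).det) (by rw [hσ, mul_comm]; exact hww.det_norm)
  refine ⟨A, w' * z * ct σ w, hA, (hw'.mul hz).mul (hw.ct hσ), hAdet, ?_, ?_⟩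
  · rw [det_mul, det_mul, hzdet, det_ct, det_mul, map_mul, det_ct, hσ]
    have h1 := hw'.det_norm
    have h2 := hw.det_norm
    linear_combination (w.det * σ w.det) * h1 + h2
  · have hxB : w' * z * ct σ w * A = B * (w' * z * ct σ w) := by
      rw [eA, eB]
      calc w' * z * ct σ w * (w * D * ct σ w) = w' * z * (ct σ w * w) * D * ct σ w := by
            simp only [Matrix.mul_assoc]
        _ = w' * (z * D) * ct σ w := by rw [hw, Matrix.mul_one]; simp only [Matrix.mul_assoc]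
        _ = w' * D * ((ct σ w') * w') * z * ct σ w := by
            rw [hw', hzD, Matrix.mul_one]; simp only [Matrix.mul_assoc]
        _ = _ := by simp only [Matrix.mul_assoc]
    obtain ⟨x, hx⟩ : ∃ x, x = w' * z * ct σ w := ⟨_, rfl⟩
    have hxU : UStd σ x := hx ▸ (hw'.mul hz).mul (hw.ct hσ)
    rw [← hx] at hxB ⊢
    have hgx : g = A * ct σ B := by rw [← hg, Matrix.mul_assoc, hB.right, Matrix.mul_one]
    have : ct σ A * ct σ x = ct σ x * ct σ B := by rw [← ct_mul, hxB, ct_mul]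
    calc g = A * (x * ct σ x) * ct σ B := by rw [hxU.right, Matrix.mul_one, hgx]
      _ = A * x * (ct σ x * ct σ B) := by simp only [Matrix.mul_assoc]
      _ = _ := by rw [← this, ← Matrix.mul_assoc]

/-- Everything transported along a frame. -/
theorem isC_of_frame (hF : Fintype.card F = q ^ 2) (hσq : ∀ x, σ x = x ^ q) (hσ : ∀ x, σ (σ x) = x)
    {α β : Type*} [Fintype α] [DecidableEq α] [Fintype β] [DecidableEq β] (e : α ⊕ (β ⊕ α) ≃ Fin n)
    {P : Matrix (Fin n) (α ⊕ (β ⊕ α)) F} (hP : ct σ P * P = gram α β)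
    {g : Matrix (Fin n) (Fin n) F} {A B D : Matrix (α ⊕ (β ⊕ α)) (α ⊕ (β ⊕ α)) F}
    (hA : GUn σ A) (hB : GUn σ B) (hD : GUn σ D) (hg : gram (F := F) α β * ct σ P * g * P * B = A)
    (hAD : Sim A D) (hBD : Sim B D) (hdet : D.det = 1)
    (hcen : ∀ t : F, t * σ t = 1 → ∃ z, GUn σ z ∧ z * D = D * z ∧ z.det = t) : IsC σ g := by
  let π := fun X : Matrix (α ⊕ (β ⊕ α)) (α ⊕ (β ⊕ α)) F => X.submatrix e.symm e.symm
  have hπ : ∀ X Y, π (X * Y) = π X * π Y := fun X Y => (Matrix.submatrix_mul_equiv X Y _ _ _).symm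
  have hπ1 : π 1 = 1 := Matrix.submatrix_one_equiv _
  have hπct : ∀ X, π (ct σ X) = ct σ (π X) := fun X => rfl
  have hπdet : ∀ X, (π X).det = X.det := fun X => Matrix.det_submatrix_equiv_self _ _
  obtain ⟨G, hG⟩ : ∃ G, G = π (gram α β) := ⟨_, rfl⟩
  have hGG : G * G = 1 := by rw [hG, ← hπ, gram_mul_gram, hπ1]
  obtain ⟨P₀, hP₀⟩ : ∃ P₀, P₀ = P.submatrix id e.symm := ⟨_, rfl⟩
  have hPG : ct σ P₀ * P₀ = G := by
    rw [hP₀, ct_submatrix, ← Matrix.submatrix_mul _ _ _ _ _ Function.bijective_id, hP, hG]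
  obtain ⟨Q, hQ⟩ : ∃ Q, Q = G * ct σ P₀ := ⟨_, rfl⟩
  have hQP : Q * P₀ = 1 := by rw [hQ, Matrix.mul_assoc, hPG, hGG]
  have hPQ : P₀ * Q = 1 := mul_eq_one_comm.1 hQP
  let φ := fun X => P₀ * π X * Q
  have hmul : ∀ X Y, φ (X * Y) = φ X * φ Y := fun X Y => by
    calc P₀ * π (X * Y) * Q = P₀ * π X * (Q * P₀) * π Y * Q := by
          rw [hQP, Matrix.mul_one, hπ]; simp only [Matrix.mul_assoc]
      _ = _ := by simp only [φ, Matrix.mul_assoc]
  have hQct : ct σ Q = P₀ * G := by rw [hQ, ct_mul, ct_ct σ hσ, hG, ← hπct, ct_gram]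
  have hU : ∀ X, GUn σ X → UStd σ (φ X) := fun X hX => by
    have hX' : ct σ (π X) * G * π X = G := by
      have := congrArg π (show ct σ X * gram α β * X = gram α β from hX)
      rwa [hπ, hπ, hπct, ← hG] at this
    show ct σ (P₀ * π X * Q) * (P₀ * π X * Q) = 1
    rw [ct_mul, ct_mul, hQct]
    calc P₀ * G * (ct σ (π X) * ct σ P₀) * (P₀ * π X * Q)
        = P₀ * G * (ct σ (π X) * (ct σ P₀ * P₀) * π X) * Q := by simp only [Matrix.mul_assoc]
      _ = P₀ * (G * G) * Q := by rw [hPG, hX']; simp only [Matrix.mul_assoc]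
      _ = 1 := by rw [hGG, Matrix.mul_one, hPQ]
  have hdetφ : ∀ X, (φ X).det = X.det := fun X => by
    show (P₀ * π X * Q).det = X.det
    rw [det_mul, det_mul, mul_right_comm, ← det_mul, hPQ, det_one, one_mul, hπdet]
  have hφ1 : φ 1 = 1 := by show P₀ * π 1 * Q = 1; rw [hπ1, Matrix.mul_one, hPQ]
  have hsim : ∀ X, Sim X D → Sim (φ X) (φ D) := fun X ⟨S, hS, e'⟩ => by
    obtain ⟨Si, hSi⟩ := hS.exists_right_inv
    exact ⟨φ S, IsUnit.of_mul_eq_one (φ Si) (by rw [← hmul, hSi, hφ1]), by rw [← hmul, e', hmul]⟩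
  have hπg : π (gram (F := F) α β * ct σ P * g * P) = Q * g * P₀ := by
    rw [hQ, hG, hP₀, ct_submatrix]
    show (gram (F := F) α β * ct σ P * g * P).submatrix e.symm e.symm = _
    rw [Matrix.submatrix_mul_equiv]
    ext i j
    simp [Matrix.mul_apply, Matrix.submatrix_apply]
  refine isC_of_pair hF hσq hσ (hU A hA) (hU B hB) (hU D hD) ?_ (hsim A hAD) (hsim B hBD)
    (by rw [hdetφ, hdet]) fun t ht => ?_
  · rw [← hg]
    show g * (P₀ * π B * Q) = P₀ * π (gram (F := F) α β * ct σ P * g * P * B) * Q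
    rw [hπ, hπg]
    calc g * (P₀ * π B * Q) = (P₀ * Q) * g * (P₀ * π B * Q) := by rw [hPQ, Matrix.one_mul]
      _ = _ := by simp only [Matrix.mul_assoc]
  · obtain ⟨z, hz, hzD, hzt⟩ := hcen t ht
    exact ⟨φ z, hU z hz, by rw [← hmul, hzD, hmul], by rw [hdetφ, hzt]⟩

end CfsgLib.SUComm
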