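import Cfsg.Agent.Lib.Classical.SUComm.Field

/-!
# One step of the Gauss decomposition of a non-scalar unitary map

For a suitable isotropic `v` the sphere of possible duals `w` is so rich that some `w` leaves a non-scalar
middle map.
-/

set_option autoImplicit false
set_option linter.unusedSectionVars false

namespace CfsgLib.SUComm

open Matrix CfsgLib.Classical

variable {F : Type*} [Field F] [Fintype F] {σ : F →+* F} {q n : ℕ}
variable (g : (Fin n → F) →ₗ[F] (Fin n → F))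

/-- An isotropic vector not orthogonal to its image. -/
theorem exists_iso_vec (hF : Fintype.card F = q ^ 2) (hσq : ∀ a, σ a = a ^ q)
    (hns : ¬ ∃ c : F, ∀ x, g x = c • x) : ∃ v, fh σ v v = 0 ∧ fh σ (g v) v ≠ 0 := by
  by_contra hcon
  push Not at hcon
  have hσ : ∀ a, σ (σ a) = a := fun a => by rw [hσq, hσq, pow_q_q hF]
  obtain ⟨G, hG⟩ : ∃ G : Fin n → Fin n → F, ∀ i j, G i j = g (Pi.single j 1) i := ⟨_, fun _ _ => rfl⟩
  obtain ⟨a, b, c, ha, hb, hc, hab, hac, hbc⟩ := exists_three hF hσq (σ := σ) (μ := -1) (by simp) (by simp)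
  have key : ∀ i j, i ≠ j → G i j = 0 ∧ G i i = G j j := by
    intro i j hij
    have hrel : ∀ s : F, s * σ s = -1 → G i j * (s * s) + (G i i - G j j) * s - G j i = 0 := by
      intro s hs
      have hv : fh σ ((Pi.single i (1 : F) : Fin n → F) + s • Pi.single j 1)
          (Pi.single i 1 + s • Pi.single j 1) = 0 := by
        simp only [fh_add_left, fh_add_right, fh_smul_left, fh_smul_right, fh_single_single, if_pos, if_neg hij,
          if_neg (Ne.symm hij)]
        linear_combination hs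
      have h := hcon _ hv
      simp only [map_add, map_smul, fh_add_left, fh_add_right, fh_smul_left, fh_smul_right, fh_single, Pi.add_apply,
        Pi.smul_apply, smul_eq_mul, ← hG] at h
      linear_combination s * h - (G j i + s * G j j) * hs
    have ea := hrel a ha
    have eb := hrel b hb
    have ec := hrel c hc
    have e1 : G i j * (a + b) + (G i i - G j j) = 0 :=
      mul_left_cancel₀ (sub_ne_zero.2 hab) (by rw [mul_zero]; linear_combination ea - eb)
    have e2 : G i j * (a + c) + (G i i - G j j) = 0 :=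
      mul_left_cancel₀ (sub_ne_zero.2 hac) (by rw [mul_zero]; linear_combination ea - ec)
    have e3 : G i j = 0 := mul_right_cancel₀ (sub_ne_zero.2 hbc) (by rw [zero_mul]; linear_combination e1 - e2)
    refine ⟨e3, ?_⟩
    linear_combination e1 - (a + b) * e3
  rcases Nat.eq_zero_or_pos n with rfl | hn
  · exact hns ⟨1, fun x => funext fun i => i.elim0⟩
  refine hns ⟨G ⟨0, hn⟩ ⟨0, hn⟩, fun x => funext fun i => ?_⟩
  conv_lhs => rw [pi_eq_sum_univ' x, map_sum, Finset.sum_apply]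
  rw [Finset.sum_eq_single i]
  · rw [map_smul, Pi.smul_apply, Pi.smul_apply, ← hG, smul_eq_mul, smul_eq_mul, mul_comm]
    rcases eq_or_ne i ⟨0, hn⟩ with rfl | h0
    · rfl
    · rw [(key i ⟨0, hn⟩ h0).2]
  · intro j _ hj
    rw [map_smul, Pi.smul_apply, ← hG, (key i j hj.symm).1, smul_zero]
  · simp

/-- The step. -/
theorem exists_step (hF : Fintype.card F = q ^ 2) (hσq : ∀ a, σ a = a ^ q) (hq : 3 ≤ q)
    (hg : ∀ x y, fh σ (g x) (g y) = fh σ x y) (hns : ¬ ∃ c : F, ∀ x, g x = c • x) (hn : 2 ≤ n)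
    (h2 : n = 2 → ∀ v, fh σ v v = 0 → fh σ (g v) v + σ (fh σ (g v) v) = 0) :
    ∃ (v w : Fin n → F) (z : Fin (n - 2) → Fin n → F), fh σ v v = 0 ∧ fh σ w w = 0 ∧ fh σ v w = 1 ∧
      fh σ (g v) w = 1 ∧ (∀ i, fh σ (z i) v = 0 ∧ fh σ (z i) w = 0) ∧
      (∀ i j, fh σ (z i) (z j) = if i = j then 1 else 0) ∧
      (4 ≤ n → ∀ ν : F, ν ≠ 0 → ∃ i j,
        fh σ (g (z j)) (z i) - fh σ (g (z j)) w * fh σ (g v) (z i) ≠ if i = j then ν else 0) := by
  classical
  have hσ : ∀ a, σ (σ a) = a := fun a => by rw [hσq, hσq, pow_q_q hF]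
  obtain ⟨v, hv, hα0⟩ := exists_iso_vec g hF hσq hns
  obtain ⟨α, hα⟩ : ∃ α, α = fh σ (g v) v := ⟨_, rfl⟩
  rw [← hα] at hα0
  have hα' : fh σ v (g v) = σ α := by rw [hα, fh_conj _ _ hσ]
  have hσα : σ α ≠ 0 := (map_ne_zero σ).2 hα0
  have hgv : fh σ (g v) (g v) = 0 := by rw [hg, hv]
  -- the complement of the plane
  let L : (Fin n → F) →ₗ[F] F × F :=
    { toFun := fun x => (fh σ x v, fh σ x (g v))
      map_add' := fun x y => by simp [fh_add_left]
      map_smul' := fun c x => by simp [fh_smul_left] }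
  let E : Submodule F (Fin n → F) := LinearMap.ker L
  have hE : ∀ x, x ∈ E ↔ fh σ x v = 0 ∧ fh σ x (g v) = 0 := fun x => by
    simp only [E, LinearMap.mem_ker]; exact Prod.ext_iff
  let p : (Fin n → F) →ₗ[F] (Fin n → F) :=
    { toFun := fun x => x - (fh σ x (g v) / σ α) • v - (fh σ x v / α) • g v
      map_add' := fun x y => by simp only [fh_add_left, add_div, add_smul]; abel
      map_smul' := fun c x => by
        simp only [fh_smul_left, RingHom.id_apply, smul_sub, smul_smul, mul_div_assoc] }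
  have hp : ∀ x, p x = x - (fh σ x (g v) / σ α) • v - (fh σ x v / α) • g v := fun x => rfl
  have hpE : ∀ x, p x ∈ E := fun x => (hE _).2 (by
    rw [hp]
    simp only [fh_sub_left, fh_smul_left, hv, hgv, hα', ← hα]
    constructor <;> field_simp <;> ring)
  have hpid : ∀ x ∈ E, p x = x := fun x hx => by
    rw [hp, ((hE x).1 hx).1, ((hE x).1 hx).2]; simp
  have hsymm : ∀ {a b : Fin n → F}, fh σ a b = 0 → fh σ b a = 0 := fun {a b} h => by
    rw [← fh_conj _ _ hσ, h, map_zero]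
  have hEnd : ∀ u ∈ E, (∀ y ∈ E, Cfsg.hermForm n F q u y = 0) → u = 0 := fun u hu h => by
    refine eq_zero_of_fh u (σ := σ) fun y => ?_
    have hy : y = p y + (fh σ y (g v) / σ α) • v + (fh σ y v / α) • g v := by rw [hp]; abel
    rw [hy, fh_add_right, fh_add_right, fh_smul_right, fh_smul_right, ((hE u).1 hu).1, ((hE u).1 hu).2,
      fh_eq_hermForm hσq, h _ (hpE y)]
    simp
  have hdimE : Module.finrank F E = n - 2 := by
    have h1 := L.finrank_range_add_finrank_ker
    rw [Module.finrank_fin_fun, LinearMap.range_eq_top.2 (fun c => ⟨(c.2 / σ α) • v + (c.1 / α) • g v, by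
      show (fh σ _ v, fh σ _ (g v)) = c
      simp only [fh_add_left, fh_smul_left, hv, hgv, hα', ← hα]
      exact Prod.ext (by field_simp; ring) (by field_simp; ring)⟩), finrank_top, Module.finrank_prod,
      Module.finrank_self] at h1
    change _ + Module.finrank F E = n at h1
    omega
  obtain ⟨f₀, hf₀, hspan⟩ := exists_orthonormal_span hF E hEnd
  let f : Fin (n - 2) → Fin n → F := fun i => f₀ (Fin.cast hdimE.symm i)
  have hf : ∀ i j, fh σ (f i) (f j) = if i = j then 1 else 0 := fun i j => by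
    simp [f, fh_eq_hermForm hσq, hf₀, Fin.ext_iff]
  have hfE : ∀ i, f i ∈ E := fun i => hspan ▸ Submodule.subset_span ⟨_, rfl⟩
  have hEspan : ∀ y ∈ E, y ∈ Submodule.span F (Set.range f) := fun y hy => by
    rw [← hspan] at hy
    refine Submodule.span_mono ?_ hy
    rintro _ ⟨i, rfl⟩
    exact ⟨Fin.cast hdimE i, by simp [f]⟩
  -- the affine sphere
  obtain ⟨wP, hwP⟩ : ∃ wP, wP = (σ α)⁻¹ • v + α⁻¹ • g v := ⟨_, rfl⟩
  have hw1 : fh σ v wP = 1 := by
    rw [hwP, fh_add_right, fh_smul_right, fh_smul_right, hv, hα', map_inv₀, map_inv₀]; field_simp; ring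
  have hw2 : fh σ (g v) wP = 1 := by
    rw [hwP, fh_add_right, fh_smul_right, fh_smul_right, hgv, ← hα, map_inv₀, map_inv₀, hσ]; field_simp; ring
  have hwPE : ∀ y ∈ E, fh σ y wP = 0 := fun y hy => by
    rw [hwP, fh_add_right, fh_smul_right, fh_smul_right, ((hE y).1 hy).1, ((hE y).1 hy).2]; simp
  obtain ⟨κ, hκ⟩ : ∃ κ, κ = -fh σ wP wP := ⟨_, rfl⟩
  have hκσ : σ κ = κ := by rw [hκ, map_neg, fh_conj _ _ hσ]
  obtain ⟨z, hz⟩ : ∃ z : (Fin n → F) → Fin (n - 2) → Fin n → F, ∀ u i, z u i = f i - fh σ (f i) u • v :=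
    ⟨_, fun _ _ => rfl⟩
  have hbasic : ∀ u ∈ E, fh σ u u = κ → fh σ v (wP + u) = 1 ∧ fh σ (g v) (wP + u) = 1 ∧
      fh σ (wP + u) (wP + u) = 0 ∧ (∀ i, fh σ (z u i) v = 0 ∧ fh σ (z u i) (wP + u) = 0) ∧
      ∀ i j, fh σ (z u i) (z u j) = if i = j then 1 else 0 := by
    intro u hu huu
    have e1 : fh σ v u = 0 := hsymm ((hE u).1 hu).1
    have e2 : fh σ (g v) u = 0 := hsymm ((hE u).1 hu).2
    have e3 : fh σ v (wP + u) = 1 := by rw [fh_add_right, hw1, e1, add_zero]
    refine ⟨e3, by rw [fh_add_right, hw2, e2, add_zero], ?_, fun i => ⟨?_, ?_⟩, fun i j => ?_⟩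
    · rw [fh_add_left, fh_add_right, fh_add_right, hwPE u hu, hsymm (hwPE u hu), huu, hκ]; ring
    · rw [hz, fh_sub_left, fh_smul_left, ((hE _).1 (hfE i)).1, hv]; ring
    · rw [hz, fh_sub_left, fh_smul_left, fh_add_right, hwPE _ (hfE i), e3]; ring
    · have ei : fh σ (f i) v = 0 := ((hE _).1 (hfE i)).1
      have ej : fh σ v (f j) = 0 := hsymm ((hE _).1 (hfE j)).1
      rw [hz, hz, fh_sub_left, fh_smul_left, fh_sub_right, fh_sub_right, fh_smul_right, fh_smul_right, ei, ej, hv, hf]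
      ring
  suffices h : ∃ u ∈ E, fh σ u u = κ ∧ (4 ≤ n → ∀ ν : F, ν ≠ 0 → ∃ i j,
      fh σ (g (z u j)) (z u i) - fh σ (g (z u j)) (wP + u) * fh σ (g v) (z u i) ≠ if i = j then ν else 0) by
    obtain ⟨u, hu, huu, hC⟩ := h
    obtain ⟨a1, a2, a3, a4, a5⟩ := hbasic u hu huu
    exact ⟨v, wP + u, z u, hv, a3, a1, a2, a4, a5, hC⟩
  -- small dimensions
  rcases Nat.lt_or_ge n 4 with hn4 | hn4
  · rcases Nat.lt_or_ge n 3 with hn3 | hn3
    · have h2' := h2 (by omega) v hv
      rw [← hα] at h2'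
      refine ⟨0, E.zero_mem, ?_, fun h => absurd h (by omega)⟩
      rw [fh_zero_left, hκ, hwP]
      simp only [fh_add_left, fh_add_right, fh_smul_left, fh_smul_right, hv, hgv, hα', ← hα, map_inv₀, hσ]
      field_simp
      linear_combination h2'
    · obtain ⟨l, hl⟩ := exists_norm hF hσq hκσ
      refine ⟨l • f ⟨0, by omega⟩, E.smul_mem _ (hfE _), ?_, fun h => absurd h (by omega)⟩
      rw [fh_smul_left, fh_smul_right, hf, if_pos rfl, mul_one, hl]
  -- three independent points of the sphere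
  let i0 : Fin (n - 2) := ⟨0, by omega⟩
  let i1 : Fin (n - 2) := ⟨1, by omega⟩
  have h01 : i0 ≠ i1 := by simp [i0, i1, Fin.ext_iff]
  let mkv : F → F → Fin n → F := fun a b => a • f i0 + b • f i1
  have hmkE : ∀ a b, mkv a b ∈ E := fun a b => E.add_mem (E.smul_mem _ (hfE _)) (E.smul_mem _ (hfE _))
  have hmk : ∀ a b a' b', fh σ (mkv a b) (mkv a' b') = a * σ a' + b * σ b' := fun a b a' b' => by
    simp only [mkv, fh_add_left, fh_add_right, fh_smul_left, fh_smul_right, hf, if_pos, if_neg h01,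
      if_neg h01.symm]
    ring
  have hindep : ∀ a b a' b' t : F, a * b' - b * a' ≠ 0 → mkv a b ≠ t • mkv a' b' := fun a b a' b' t h e => by
    have ea : fh σ (mkv a b) (f i0) = fh σ (t • mkv a' b') (f i0) := by rw [e]
    have eb : fh σ (mkv a b) (f i1) = fh σ (t • mkv a' b') (f i1) := by rw [e]
    simp [mkv, fh_add_left, fh_smul_left, hf, h01, h01.symm] at ea eb
    exact h (by rw [ea, eb]; ring)
  obtain ⟨a₁, b₁, a₂, b₂, a₃, b₃, e₁, e₂, e₃, d12, d13, d23⟩ : ∃ a₁ b₁ a₂ b₂ a₃ b₃ : F,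
      a₁ * σ a₁ + b₁ * σ b₁ = κ ∧ a₂ * σ a₂ + b₂ * σ b₂ = κ ∧ a₃ * σ a₃ + b₃ * σ b₃ = κ ∧
      a₁ * b₂ - b₁ * a₂ ≠ 0 ∧ a₁ * b₃ - b₁ * a₃ ≠ 0 ∧ a₂ * b₃ - b₂ * a₃ ≠ 0 := by
    by_cases hk : κ = 0
    · obtain ⟨a, b, c, ha, hb, hc, hab, hac, hbc⟩ := exists_three hF hσq (σ := σ) (μ := -1) (by simp) (by simp)
      refine ⟨1, a, 1, b, 1, c, ?_, ?_, ?_, ?_, ?_, ?_⟩ <;>
        first
          | (simp only [hk, map_one, one_mul, mul_one]; rw [ha]; ring)
          | (simp only [hk, map_one, one_mul, mul_one]; rw [hb]; ring)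
          | (simp only [hk, map_one, one_mul, mul_one]; rw [hc]; ring)
          | (simp only [one_mul, mul_one]; exact sub_ne_zero.2 (Ne.symm ‹_›))
    · obtain ⟨l, hl⟩ := exists_norm hF hσq hκσ
      obtain ⟨t, htσ, ht0, htk⟩ := exists_fixed hF hσq hq hκσ hk
      obtain ⟨a, ha⟩ := exists_norm hF hσq htσ
      obtain ⟨b, hb⟩ := exists_norm hF hσq (show σ (κ - t) = κ - t by rw [map_sub, hκσ, htσ])
      have hl0 : l ≠ 0 := fun e => hk (by rw [← hl, e, zero_mul])
      have ha0 : a ≠ 0 := fun e => ht0 (by rw [← ha, e, zero_mul])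
      have hb0 : b ≠ 0 := fun e => htk (eq_of_sub_eq_zero (by rw [← neg_sub, ← hb, e, zero_mul, neg_zero]))
      refine ⟨l, 0, 0, l, a, b, by simp [hl], by simp [hl], by rw [ha, hb]; ring, ?_, ?_, ?_⟩ <;>
        simp [hl0, ha0, hb0]
  by_contra hcon
  push Not at hcon
  obtain ⟨c, hc⟩ : ∃ c : (Fin n → F) → F, ∀ y, c y = fh σ (g y) v - α * fh σ (g y) wP := ⟨_, fun _ => rfl⟩
  -- a scalar middle map makes the compression a rank one perturbation of a scalar
  have scalar : ∀ u ∈ E, fh σ u u = κ → ∃ ν : F, ν ≠ 0 ∧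
      ∀ y ∈ E, p (g y) = ν • y + (c y - α * fh σ (g y) u) • u := by
    intro u hu huu
    obtain ⟨-, ν, hν0, hν⟩ := hcon u hu huu
    refine ⟨ν, hν0, ?_⟩
    obtain ⟨a1, a2, a3, a4, a5⟩ := hbasic u hu huu
    have hb : ∀ j, p (g (f j)) = ν • f j + (c (f j) - α * fh σ (g (f j)) u) • u := by
      intro j
      obtain ⟨x, hx⟩ : ∃ x, x = g (z u j) - fh σ (g (z u j)) (wP + u) • g v := ⟨_, rfl⟩
      have hxw : fh σ x (wP + u) = 0 := by rw [hx, fh_sub_left, fh_smul_left, a2]; ring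
      have hxz : ∀ i, fh σ x (z u i) = if i = j then ν else 0 := fun i => by
        rw [hx, fh_sub_left, fh_smul_left]; exact hν i j
      obtain ⟨r, hr⟩ : ∃ r, r = x - fh σ x v • (wP + u) - ν • z u j := ⟨_, rfl⟩
      have r1 : fh σ r v = 0 := by
        rw [hr, fh_sub_left, fh_sub_left, fh_smul_left, fh_smul_left, (a4 j).1,
          show fh σ (wP + u) v = 1 by rw [← fh_conj _ _ hσ, a1, map_one]]
        ring
      have r2 : fh σ r (wP + u) = 0 := by
        rw [hr, fh_sub_left, fh_sub_left, fh_smul_left, fh_smul_left, hxw, a3, (a4 j).2]; ring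
      have r3 : ∀ i, fh σ r (z u i) = 0 := fun i => by
        rw [hr, fh_sub_left, fh_sub_left, fh_smul_left, fh_smul_left, hxz, hsymm (a4 i).2, a5]
        split_ifs with h1 h2 h2
        · ring
        · exact absurd h1.symm h2
        · exact absurd h2.symm h1
        · ring
      have r4 : ∀ i, fh σ r (f i) = 0 := fun i => by
        have := r3 i
        rw [hz, fh_sub_right, fh_smul_right, r1, mul_zero, sub_zero] at this
        exact this
      have r5' : ∀ y ∈ Submodule.span F (Set.range f), fh σ r y = 0 := fun y hy => by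
        induction hy using Submodule.span_induction with
        | mem x h => obtain ⟨i, rfl⟩ := h; exact r4 i
        | zero => simp
        | add a b _ _ ha hb => rw [fh_add_right, ha, hb, add_zero]
        | smul c a _ ha => rw [fh_smul_right, ha, mul_zero]
      have r5 : ∀ y ∈ E, fh σ r y = 0 := fun y hy => r5' y (hEspan y hy)
      have r6 : fh σ r (g v) = 0 := by
        have h := r2
        rw [fh_add_right, r5 u hu, add_zero, hwP, fh_add_right, fh_smul_right, fh_smul_right, r1, mul_zero,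
          zero_add] at h
        exact (mul_eq_zero.1 h).resolve_left (by simp [hα0])
      have r0 : r = 0 := eq_zero_of_fh r (σ := σ) fun y => by
        have hy : y = p y + (fh σ y (g v) / σ α) • v + (fh σ y v / α) • g v := by rw [hp]; abel
        rw [hy, fh_add_right, fh_add_right, fh_smul_right, fh_smul_right, r1, r6, r5 _ (hpE y)]
        simp
      have pv : p v = 0 := by
        rw [hp, hv, hα', div_self hσα]; simp
      have pgv : p (g v) = 0 := by
        rw [hp, hgv, ← hα, div_self hα0]; simp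
      have pwP : p wP = 0 := by rw [hwP, map_add, map_smul, map_smul, pv, pgv]; simp
      have hxv : fh σ x v = c (f j) - α * fh σ (g (f j)) u := by
        rw [hx, hz]
        simp only [map_sub, map_smul, fh_sub_left, fh_smul_left, fh_add_right, a2, hc, ← hα,
          hw2, show fh σ (g v) u = 0 from hsymm ((hE u).1 hu).2]
        ring
      have e := congrArg p r0
      rw [hr, hxv, hx, hz u j] at e
      simp only [map_sub, map_add, map_smul, map_zero, pv, pgv, pwP, hpid u hu, hpid _ (hfE j), smul_zero, sub_zero,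
        zero_add] at e
      linear_combination (norm := module) e
    suffices h : ∀ y ∈ Submodule.span F (Set.range f), p (g y) = ν • y + (c y - α * fh σ (g y) u) • u from
      fun y hy => h y (hEspan y hy)
    intro y hy
    induction hy using Submodule.span_induction with
    | mem x h => obtain ⟨i, rfl⟩ := h; exact hb i
    | zero => simp [hc]
    | add a b _ _ ha hb =>
      rw [map_add, map_add, ha, hb]
      simp only [hc, map_add, fh_add_left]
      module
    | smul t a _ ha =>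
      rw [map_smul, map_smul, ha]
      simp only [hc, map_smul, fh_smul_left]
      module
  have hnz : ∀ a b : F, a * σ a + b * σ b = κ → ∀ a' b', a * b' - b * a' ≠ 0 → mkv a b ≠ 0 := by
    intro a b _ a' b' h e
    exact hindep a b a' b' 0 h (by rw [e, zero_smul])
  -- the constant part vanishes
  have hc0 : ∀ y ∈ E, c y = 0 := by
    obtain ⟨a, b, cc, ha, hb, -, hab, -, -⟩ := exists_three hF hσq (σ := σ) (μ := 1) (map_one σ) one_ne_zero
    obtain ⟨ζ, hζ, hζ1⟩ : ∃ ζ : F, ζ * σ ζ = 1 ∧ ζ ≠ 1 := by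
      by_cases h : a = 1
      · exact ⟨b, hb, fun e => hab (by rw [h, e])⟩
      · exact ⟨a, ha, h⟩
    have hu := hnz a₁ b₁ e₁ a₂ b₂ d12
    obtain ⟨ν, -, hν⟩ := scalar (mkv a₁ b₁) (hmkE _ _) (by rw [hmk, e₁])
    obtain ⟨ν', -, hν'⟩ := scalar (ζ • mkv a₁ b₁) (E.smul_mem _ (hmkE _ _)) (by
      rw [fh_smul_left, fh_smul_right, hmk, e₁, ← mul_assoc, hζ, one_mul])
    have e : ∀ y ∈ E, (ν - ν') • y =
        (ζ * (c y - α * (σ ζ * fh σ (g y) (mkv a₁ b₁))) - (c y - α * fh σ (g y) (mkv a₁ b₁))) • mkv a₁ b₁ := by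
      intro y hy
      have := (hν y hy).symm.trans (hν' y hy)
      rw [fh_smul_right, smul_smul] at this
      linear_combination (norm := module) this
    have hνν : ν = ν' := by
      by_contra hne
      have := e _ (hmkE a₂ b₂)
      have h2 := congrArg (((ν - ν')⁻¹) • ·) this
      simp only [smul_smul, inv_mul_cancel₀ (sub_ne_zero.2 hne), one_smul] at h2
      exact hindep a₂ b₂ a₁ b₁ _ (fun h => d12 (by linear_combination -h)) h2
    intro y hy
    have h := e y hy
    rw [hνν, sub_self, zero_smul] at h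
    have h' := (smul_eq_zero.1 h.symm).resolve_right hu
    have : (ζ - 1) * c y = 0 := by linear_combination h' + α * fh σ (g y) (mkv a₁ b₁) * hζ
    exact (mul_eq_zero.1 this).resolve_left (sub_ne_zero.2 hζ1)
  obtain ⟨ν₁, hν₁0, hν₁⟩ := scalar (mkv a₁ b₁) (hmkE _ _) (by rw [hmk, e₁])
  obtain ⟨ν₂, hν₂0, hν₂⟩ := scalar (mkv a₂ b₂) (hmkE _ _) (by rw [hmk, e₂])
  obtain ⟨ν₃, hν₃0, hν₃⟩ := scalar (mkv a₃ b₃) (hmkE _ _) (by rw [hmk, e₃])
  -- equal scalars for independent points are impossible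
  have clash : ∀ (ν : F) (a b a' b' : F), ν ≠ 0 → a * b' - b * a' ≠ 0 →
      (∀ y ∈ E, p (g y) = ν • y + (c y - α * fh σ (g y) (mkv a b)) • mkv a b) →
      (∀ y ∈ E, p (g y) = ν • y + (c y - α * fh σ (g y) (mkv a' b')) • mkv a' b') → False := by
    intro ν a b a' b' hν hd h h'
    have hzero : ∀ y ∈ E, fh σ (g y) (mkv a b) = 0 := fun y hy => by
      have e := (h y hy).symm.trans (h' y hy)
      rw [hc0 y hy, zero_sub, zero_sub, add_right_inj] at e
      by_contra hne
      have e' : mkv a b = ((-(α * fh σ (g y) (mkv a b)))⁻¹ * -(α * fh σ (g y) (mkv a' b'))) • mkv a' b' := by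
        rw [mul_smul, ← e, smul_smul, inv_mul_cancel₀ (neg_ne_zero.2 (mul_ne_zero hα0 hne)), one_smul]
      exact hindep a b a' b' _ hd e'
    obtain ⟨y, hy, hyu⟩ : ∃ y ∈ E, fh σ y (mkv a b) ≠ 0 := by
      by_contra hall
      push Not at hall
      have := hEnd (mkv a b) (hmkE a b) fun y hy => by
        rw [← fh_eq_hermForm hσq]; exact hsymm (hall y hy)
      exact hindep a b a' b' 0 hd (by rw [this, zero_smul])
    have h0 := hzero y hy
    have hgy : g y = p (g y) + (fh σ (g y) (g v) / σ α) • v + (fh σ (g y) v / α) • g v := by rw [hp]; abel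
    rw [hgy, h y hy, hc0 y hy, hzero y hy] at h0
    simp only [mul_zero, sub_zero, zero_smul, add_zero, fh_add_left, fh_smul_left,
      hsymm ((hE _).1 (hmkE a b)).1, hsymm ((hE _).1 (hmkE a b)).2] at h0
    exact hyu ((mul_eq_zero.1 h0).resolve_left hν)
  -- a vector orthogonal to the first point
  obtain ⟨y₀, hy₀E, hy₀, hy₀0⟩ : ∃ y ∈ E, fh σ y (mkv a₁ b₁) = 0 ∧ y ≠ 0 := by
    refine ⟨mkv (σ b₁) (-σ a₁), hmkE _ _, by rw [hmk]; ring, fun e => ?_⟩
    have ea := congrArg (fh σ · (f i0)) e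
    have eb := congrArg (fh σ · (f i1)) e
    simp only [mkv, fh_add_left, fh_smul_left, hf, if_pos, if_neg h01, if_neg h01.symm, mul_one, mul_zero,
      add_zero, zero_add, fh_zero_left, map_eq_zero, neg_eq_zero] at ea eb
    exact d12 (by rw [ea, eb]; ring)
  have hy₁ : p (g y₀) = ν₁ • y₀ := by
    have h := hν₁ y₀ hy₀E
    have h' := congrArg (fh σ · (mkv a₁ b₁)) h
    have hgy : g y₀ = p (g y₀) + (fh σ (g y₀) (g v) / σ α) • v + (fh σ (g y₀) v / α) • g v := by rw [hp]; abel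
    have hsame : fh σ (g y₀) (mkv a₁ b₁) = fh σ (p (g y₀)) (mkv a₁ b₁) := by
      conv_lhs => rw [hgy]
      simp only [fh_add_left, fh_smul_left, hsymm ((hE _).1 (hmkE a₁ b₁)).1, hsymm ((hE _).1 (hmkE a₁ b₁)).2]
      ring
    simp only [fh_add_left, fh_smul_left, hy₀, hmk, e₁, hc0 y₀ hy₀E, mul_zero, zero_add, zero_sub, ← hsame] at h'
    rw [hc0 y₀ hy₀E, zero_sub] at h
    rw [h]
    -- the coefficient vanishes or the sphere is isotropic
    by_cases h1 : fh σ (g y₀) (mkv a₁ b₁) = 0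
    · rw [h1]; simp
    · exfalso
      have hακ : 1 + α * κ = 0 := (mul_eq_zero.1 (show fh σ (g y₀) (mkv a₁ b₁) * (1 + α * κ) = 0 by
        linear_combination h')).resolve_left h1
      have h3 : ∀ y ∈ E, fh σ y (mkv a₁ b₁) = 0 := by
        intro y hy
        have h4 := congrArg (fh σ · (mkv a₁ b₁)) (hν₁ y hy)
        have hgy : g y = p (g y) + (fh σ (g y) (g v) / σ α) • v + (fh σ (g y) v / α) • g v := by rw [hp]; abel
        have hs : fh σ (g y) (mkv a₁ b₁) = fh σ (p (g y)) (mkv a₁ b₁) := by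
          conv_lhs => rw [hgy]
          simp only [fh_add_left, fh_smul_left, hsymm ((hE _).1 (hmkE a₁ b₁)).1,
            hsymm ((hE _).1 (hmkE a₁ b₁)).2]
          ring
        simp only [fh_add_left, fh_smul_left, hmk, e₁, hc0 y hy, zero_sub, ← hs] at h4
        refine (mul_eq_zero.1 (show ν₁ * fh σ y (mkv a₁ b₁) = 0 by
          linear_combination (fh σ (g y) (mkv a₁ b₁)) * hακ - h4)).resolve_left hν₁0
      exact hnz a₁ b₁ e₁ a₂ b₂ d12 (hEnd _ (hmkE _ _) fun y hy => by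
        rw [← fh_eq_hermForm hσq]; exact hsymm (h3 y hy))
  have hdir : ∀ (ν a b : F), (∀ y ∈ E, p (g y) = ν • y + (c y - α * fh σ (g y) (mkv a b)) • mkv a b) →
      ν ≠ ν₁ → ∃ t : F, y₀ = t • mkv a b := by
    intro ν a b h hne
    have e := h y₀ hy₀E
    rw [hy₁] at e
    refine ⟨(ν₁ - ν)⁻¹ * (c y₀ - α * fh σ (g y₀) (mkv a b)), ?_⟩
    rw [mul_smul, eq_inv_smul_iff₀ (sub_ne_zero.2 (Ne.symm hne)), sub_smul, e]
    module
  by_cases h2e : ν₂ = ν₁
  · exact clash ν₁ a₁ b₁ a₂ b₂ hν₁0 d12 hν₁ (h2e ▸ hν₂)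
  by_cases h3e : ν₃ = ν₁
  · exact clash ν₁ a₁ b₁ a₃ b₃ hν₁0 d13 hν₁ (h3e ▸ hν₃)
  obtain ⟨t, ht⟩ := hdir ν₂ a₂ b₂ hν₂ h2e
  obtain ⟨t', ht'⟩ := hdir ν₃ a₃ b₃ hν₃ h3e
  have ht0 : t ≠ 0 := fun e => hy₀0 (by rw [ht, e, zero_smul])
  refine hindep a₂ b₂ a₃ b₃ (t⁻¹ * t') d23 ?_
  rw [mul_smul, ← ht', ht, smul_smul, inv_mul_cancel₀ ht0, one_smul]

end CfsgLib.SUComm
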